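import Cfsg.Agent.Lib.RecogThree.M12.Graph.Kills

/-!
Orders of non-abelian simple groups dividing `95040` and divisible by `11`.
-/

set_option autoImplicit false
set_option linter.style.haveILetI false
set_option linter.unusedSectionVars false

namespace Cfsg.Agent.Lib.RecogThree.M12.Graph.Orders

open Cfsg.Agent.Lib.Classif

universe u

theorem dead_one : ∀ a < 7, ∀ b < 4, (11 * 2 ^ a * 3 ^ b) / 11 ≠ 1 →
    Order175560.dead (11 * 2 ^ a * 3 ^ b) 11 = true := by
  decide +kernel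

set_option synthInstance.maxSize 1024 in
theorem dead_five : ∀ a < 7, ∀ b < 4, 3025 ≤ 55 * 2 ^ a * 3 ^ b →
    55 * 2 ^ a * 3 ^ b ∈ Arith.orders ∨ 55 * 2 ^ a * 3 ^ b = 7920 ∨ 55 * 2 ^ a * 3 ^ b = 95040 ∨
      Order175560.dead (55 * 2 ^ a * 3 ^ b) 11 = true ∨
      Order175560.dead (55 * 2 ^ a * 3 ^ b) 5 = true := by
  decide +kernel

theorem exists_exponents {m : ℕ} (hm : m ∣ 1728) : ∃ a < 7, ∃ b < 4, m = 2 ^ a * 3 ^ b := by
  obtain ⟨c, d, hc, hd, rfl⟩ := Nat.dvd_mul.mp (show m ∣ 2 ^ 6 * 3 ^ 3 by simpa using hm)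
  obtain ⟨a, ha, rfl⟩ := (Nat.dvd_prime_pow Nat.prime_two).mp hc
  obtain ⟨b, hb, rfl⟩ := (Nat.dvd_prime_pow Nat.prime_three).mp hd
  exact ⟨a, by omega, b, by omega, rfl⟩

theorem mods (a b : ℕ) (c : ℕ) (hc : ¬ 11 ∣ c) :
    (11 * c * 2 ^ a * 3 ^ b) / 11 % 11 ≠ 0 := by
  rw [mul_assoc, mul_assoc, Nat.mul_div_cancel_left _ (by norm_num : 0 < 11)]
  intro e
  rcases (by norm_num : Nat.Prime 11).dvd_mul.mp (Nat.dvd_of_mod_eq_zero e) with e' | e'
  · exact hc e'
  · rcases (by norm_num : Nat.Prime 11).dvd_mul.mp e' with e'' | e''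
    · exact absurd ((by norm_num : Nat.Prime 11).dvd_of_dvd_pow e'') (by norm_num)
    · exact absurd ((by norm_num : Nat.Prime 11).dvd_of_dvd_pow e'') (by norm_num)

variable {T : Type u} [Group T] [Finite T] [IsSimpleGroup T] (hT : ¬ IsMulCommutative T)
include hT

theorem not_five_free {m : ℕ} (hm : m ∣ 1728) : Nat.card T ≠ 11 * m := by
  intro h
  haveI : Fact (Nat.Prime 11) := ⟨by norm_num⟩
  obtain ⟨a, ha, b, hb, rfl⟩ := exists_exponents hm
  rw [← mul_assoc] at h
  by_cases h1 : (11 * 2 ^ a * 3 ^ b) / 11 = 1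
  · have h11 : Nat.card T = 11 := by
      rw [h, ← Nat.div_mul_cancel (show 11 ∣ 11 * 2 ^ a * 3 ^ b by
        rw [mul_assoc]; exact dvd_mul_right _ _), h1, one_mul]
    haveI := isCyclic_of_prime_card h11
    exact hT IsCyclic.isMulCommutative
  · exact Order175560.false_of_dead hT h (by norm_num) (by rw [mul_assoc]; exact dvd_mul_right _ _)
      (by simpa using mods a b 1 (by norm_num)) h1 (dead_one a ha b hb h1)

theorem card_cases {m : ℕ} (hm : m ∣ 1728) (h : Nat.card T = 55 * m) (hbig : 3025 ≤ Nat.card T) :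
    Nat.card T = 7920 ∨ Nat.card T = 95040 := by
  haveI : Fact (Nat.Prime 11) := ⟨by norm_num⟩
  haveI : Fact (Nat.Prime 5) := ⟨by norm_num⟩
  obtain ⟨a, ha, b, hb, rfl⟩ := exists_exponents hm
  rw [← mul_assoc] at h
  rcases dead_five a ha b hb (h ▸ hbig) with e | e | e | e | e
  · exact absurd (h ▸ e) Kills.card_not_mem
  · exact Or.inl (h.trans e)
  · exact Or.inr (h.trans e)
  · refine (Order175560.false_of_dead hT h (by norm_num) ?_ ?_ ?_ e).elim
    · rw [mul_assoc]; exact Dvd.dvd.mul_right (by norm_num) _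
    · exact mods a b 5 (by norm_num)
    · intro e'
      have := Nat.div_mul_cancel (show 11 ∣ 55 * 2 ^ a * 3 ^ b by
        rw [mul_assoc]; exact Dvd.dvd.mul_right (by norm_num) _)
      omega
  · refine (Order175560.false_of_dead hT h (by norm_num) ?_ ?_ ?_ e).elim
    · rw [mul_assoc]; exact Dvd.dvd.mul_right (by norm_num) _
    · rw [show 55 * 2 ^ a * 3 ^ b = 5 * (11 * 2 ^ a * 3 ^ b) by ring,
        Nat.mul_div_cancel_left _ (by norm_num : 0 < 5)]
      intro e'
      rcases (by norm_num : Nat.Prime 5).dvd_mul.mp (Nat.dvd_of_mod_eq_zero e') with e2 | e2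
      · rcases (by norm_num : Nat.Prime 5).dvd_mul.mp e2 with e3 | e3
        · norm_num at e3
        · exact absurd ((by norm_num : Nat.Prime 5).dvd_of_dvd_pow e3) (by norm_num)
      · exact absurd ((by norm_num : Nat.Prime 5).dvd_of_dvd_pow e2) (by norm_num)
    · intro e'
      have := Nat.div_mul_cancel (show 5 ∣ 55 * 2 ^ a * 3 ^ b by
        rw [mul_assoc]; exact Dvd.dvd.mul_right (by norm_num) _)
      omega

end Cfsg.Agent.Lib.RecogThree.M12.Graph.Orders
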