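import Cfsg.Agent.Lib.RecogThree.M12.Graph.Layers
import Cfsg.Agent.Lib.RecogThree.M12.Graph.Orders
import Cfsg.Agent.Lib.Induced.Burnside

/-!
Perfect normal subgroups of a group of order `95040` and their simple quotients.
-/

set_option autoImplicit false
set_option linter.style.haveILetI false
set_option linter.unusedSectionVars false

namespace Cfsg.Agent.Lib.RecogThree.M12.Graph.Perfect

open Cfsg.Agent.Lib

universe u

variable {G : Type u} [Group G] [Finite G]

/-- The perfect residual of a non-soluble normal subgroup. -/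
theorem exists_perfect (H : Subgroup G) [H.Normal] (hH : ¬ Group.IsSolvable H) :
    ∃ K : Subgroup G, K ≤ H ∧ K.Normal ∧ K ≠ ⊥ ∧ ⁅K, K⁆ = K ∧
      ∀ L : Subgroup G, L ≤ H → ⁅L, L⁆ = L → L ≤ K := by
  have hstep : ∀ n, Cores.derivedIn H (n + 1) ≤ Cores.derivedIn H n := fun n => by
    haveI := Cores.derivedIn_normal H n
    exact Subgroup.commutator_le_left _ _
  obtain ⟨n, hn⟩ : ∃ n, Cores.derivedIn H (n + 1) = Cores.derivedIn H n := by
    by_contra hne
    push Not at hne
    have key : ∀ n, Nat.card (Cores.derivedIn H n) + n ≤ Nat.card H := by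
      intro n
      induction n with
      | zero => simp [Cores.derivedIn]
      | succ n ih =>
        have : Nat.card (Cores.derivedIn H (n + 1)) < Nat.card (Cores.derivedIn H n) := by
          by_contra hh
          push Not at hh
          exact hne n (Subgroup.eq_of_le_of_card_ge (hstep n) hh)
        omega
    have h0 := key (Nat.card H + 1)
    omega
  refine ⟨Cores.derivedIn H n, ?_, Cores.derivedIn_normal H n, fun e => hH ⟨⟨n, ?_⟩⟩, hn, ?_⟩
  · rw [Cores.derivedIn_eq_map]; exact Subgroup.map_subtype_le _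
  · rw [Cores.derivedIn_eq_map] at e
    exact (Subgroup.map_eq_bot_iff_of_injective _ H.subtype_injective).mp e
  · intro L hL hLp
    clear hn
    induction n with
    | zero => exact hL
    | succ n ih => rw [← hLp]; exact Subgroup.commutator_mono ih ih

theorem commutator_eq_top {K : Subgroup G} (hK : ⁅K, K⁆ = K) : commutator K = ⊤ := by
  apply Subgroup.map_injective K.subtype_injective
  rw [Subgroup.map_subtype_commutator, hK, ← MonoidHom.range_eq_map, Subgroup.range_subtype]

variable (h : Nat.card G = 95040)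
include h

theorem dvd_1728 {m : ℕ} (hm : m ∣ 95040) (h5 : ¬ 5 ∣ m) (h11 : ¬ 11 ∣ m) : m ∣ 1728 := by
  have hc : m.Coprime (5 * 11) :=
    Nat.Coprime.mul_right (((by norm_num : Nat.Prime 5).coprime_iff_not_dvd).mpr h5).symm
      (((by norm_num : Nat.Prime 11).coprime_iff_not_dvd).mpr h11).symm
  exact hc.dvd_of_dvd_mul_left hm

theorem isSolvable_of_dvd {X : Type*} [Group X] [Finite X] (hd : Nat.card X ∣ 1728) :
    Group.IsSolvable X := by
  obtain ⟨a, -, b, -, e⟩ := Orders.exists_exponents hd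
  exact Induced.Burnside.isSolvable_of_card_eq 2 3 a b Nat.prime_two Nat.prime_three e

/-- A maximal normal subgroup of a perfect normal subgroup is normal in the group. -/
theorem exists_simple_quotient (K : Subgroup G) [K.Normal] (hK : K ≠ ⊥) (hp : ⁅K, K⁆ = K) :
    ∃ (M₁ : Subgroup K) (_ : M₁.Normal), IsSimpleGroup (K ⧸ M₁) ∧
      ¬ IsMulCommutative (K ⧸ M₁) ∧ (M₁.map K.subtype).Normal ∧
      (5 ∣ Nat.card (K ⧸ M₁) ∨ 11 ∣ Nat.card (K ⧸ M₁)) := by
  classical
  haveI : Nontrivial K := (Subgroup.nontrivial_iff_ne_bot K).mpr hK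
  set S : Set (Subgroup K) := {N | N.Normal ∧ N ≠ ⊤}
  obtain ⟨M₁, hM⟩ := (Set.toFinite S).exists_maximal
    (⟨⊥, inferInstance, bot_ne_top⟩ : S.Nonempty)
  have hmax : ∀ N : Subgroup K, N.Normal → M₁ ≤ N → N = M₁ ∨ N = ⊤ := by
    intro N hN hle
    by_cases hNt : N = ⊤
    · exact Or.inr hNt
    · exact Or.inl (le_antisymm (hM.2 ⟨hN, hNt⟩ hle) hle)
  obtain ⟨hMn, hMt⟩ := hM.1
  haveI := hMn
  haveI : Nontrivial (K ⧸ M₁) := QuotientGroup.nontrivial_iff.mpr hMt
  haveI hsimple : IsSimpleGroup (K ⧸ M₁) := by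
    constructor
    intro N hN
    rcases hmax (N.comap (QuotientGroup.mk' M₁)) inferInstance (by
      intro x hx
      rw [Subgroup.mem_comap, QuotientGroup.mk'_apply, (QuotientGroup.eq_one_iff x).mpr hx]
      exact one_mem _) with e | e
    · left
      rw [← Subgroup.map_comap_eq_self_of_surjective (QuotientGroup.mk'_surjective M₁) N, e,
        QuotientGroup.map_mk'_self]
    · right
      rw [← Subgroup.map_comap_eq_self_of_surjective (QuotientGroup.mk'_surjective M₁) N, e,
        Subgroup.map_top_of_surjective _ (QuotientGroup.mk'_surjective M₁)]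
  have hnc : ¬ IsMulCommutative (K ⧸ M₁) := by
    intro hc
    apply hMt
    rw [eq_top_iff, ← commutator_eq_top hp]
    exact (Subgroup.Normal.quotient_commutative_iff_commutator_le).mp inferInstance
  have hdvd : Nat.card (K ⧸ M₁) ∣ 95040 :=
    (Subgroup.card_quotient_dvd_card M₁).trans (h ▸ Subgroup.card_subgroup_dvd_card K)
  have hprime : 5 ∣ Nat.card (K ⧸ M₁) ∨ 11 ∣ Nat.card (K ⧸ M₁) := by
    by_contra hh
    push Not at hh
    have := isSolvable_of_dvd h (dvd_1728 h hdvd hh.1 hh.2)
    exact hnc ⟨⟨IsSimpleGroup.comm_iff_isSolvable.mpr this⟩⟩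
  refine ⟨M₁, hMn, hsimple, hnc, ⟨fun v hv g => ?_⟩, hprime⟩
  obtain ⟨w, hw, rfl⟩ := hv
  set φ : K ≃* K := MulAut.conjNormal g
  set M₂ := M₁.map φ.toMonoidHom
  haveI hM₂n : M₂.Normal := hMn.map _ φ.surjective
  have hc2 : Nat.card M₂ = Nat.card M₁ := Subgroup.card_map_of_injective φ.injective
  have heq : M₂ = M₁ := by
    by_contra hne
    have hsup : M₁ ⊔ M₂ = ⊤ := by
      rcases hmax (M₁ ⊔ M₂) inferInstance le_sup_left with e | e
      · exact absurd (Subgroup.eq_of_le_of_card_ge (e ▸ le_sup_right : M₂ ≤ M₁)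
          (by rw [hc2])) hne
      · exact e
    have hcard := Cores.card_sup_dvd_mul M₁ M₂
    rw [hsup, Subgroup.card_top, hc2,
      Subgroup.card_eq_card_quotient_mul_card_subgroup M₁,
      Nat.mul_dvd_mul_iff_right Nat.card_pos] at hcard
    have hsq : Nat.card (K ⧸ M₁) * Nat.card (K ⧸ M₁) ∣ 95040 := by
      refine (Nat.mul_dvd_mul_left _ hcard).trans ?_
      rw [← Subgroup.card_eq_card_quotient_mul_card_subgroup, ← h]
      exact Subgroup.card_subgroup_dvd_card K
    rcases hprime with e | e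
    · have := (mul_dvd_mul e e).trans hsq
      norm_num at this
    · have := (mul_dvd_mul e e).trans hsq
      norm_num at this
  refine ⟨φ w, heq ▸ Subgroup.mem_map_of_mem φ.toMonoidHom hw, ?_⟩
  exact MulAut.conjNormal_apply g w

end Cfsg.Agent.Lib.RecogThree.M12.Graph.Perfect
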