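import Mathlib.Data.Fin.VecNotation
import Mathlib.Data.Fintype.Pi
import Mathlib.Algebra.BigOperators.Fin
import Mathlib.Tactic.NormNum
import Mathlib.Data.Int.GCD
import Mathlib.Algebra.Order.BigOperators.Group.List
import Mathlib.Algebra.Order.Ring.Int
import Mathlib.Tactic.Linarith

/-!
Arithmetic searches for the orders of the candidate composition factors in a group of order
`95040`: signed degrees at the prime `11` and values at an inverting involution.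
-/

set_option autoImplicit false

namespace Cfsg.Agent.Lib.RecogThree.M12.Graph.Arith

set_option maxRecDepth 8000
set_option synthInstance.maxSize 2000

/-- The orders considered. -/
def orders : List ℕ := [3960, 5940, 11880, 15840, 23760, 31680, 47520]

/-- A single signed degree is `-10`. -/
theorem two : ∀ g ∈ orders, ∀ j : Fin 41,
    let c : ℤ := 11 * ((j : ℤ) - 20) + 1
    2 ≤ c.natAbs → c.natAbs ∣ g → 2 ≤ (1 + c).natAbs → (1 + c).natAbs ∣ g →
      1 + c ^ 2 + 5 * (1 + c) ^ 2 ≤ (g : ℤ) → c = -10 := by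
  decide +kernel

/-- The signed degrees other than `-10` and `12`. -/
def code : Fin 5 → ℤ := ![45, -32, -54, -120, 144]

theorem code_list : ∀ j : Fin 41, let c : ℤ := 11 * ((j : ℤ) - 20) + 1
    2 ≤ c.natAbs → c.natAbs ∣ 95040 → c ^ 2 ≤ 47520 →
      c = -10 ∨ c = 12 ∨ ∃ i : Fin 5, c = code i := by
  decide +kernel

/-- The value `1 + ∑` of four of the signed degrees other than `-10`, `12` and `45`. -/
def tot (f : Fin 4 → Fin 5) : ℤ := 1 + code (f 0) + code (f 1) + code (f 2) + code (f 3)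

theorem five : ∀ g ∈ [15840, 23760, 31680, 47520], ∀ f : Fin 4 → Fin 5, (∀ i, f i ≠ 0) →
    (∀ i, (code (f i)).natAbs ∣ g) →
    2 ≤ (tot f).natAbs → (tot f).natAbs ∣ g →
      1 + code (f 0) ^ 2 + code (f 1) ^ 2 + code (f 2) ^ 2 + code (f 3) ^ 2 + 2 * tot f ^ 2 ≤ (g : ℤ) →
      g = 47520 ∧ ∃ i, f i = 1 := by
  decide +kernel

theorem ten : ∀ g ∈ [31680, 47520], ∀ a b c : Fin 10, a.1 + b.1 + c.1 ≤ 9 →
    (0 < b.1 → 54 ∣ g) →
    let d : ℤ := 9 - a.1 - b.1 - c.1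
    let T : ℤ := 1 - 32 * a.1 - 54 * b.1 - 120 * c.1 + 144 * d
    2 ≤ T.natAbs → T.natAbs ∣ g →
      ¬ 1 + 1024 * a.1 + 2916 * b.1 + 14400 * c.1 + 20736 * d + T ^ 2 ≤ (g : ℤ) := by
  decide +kernel

/-- The degree sum and the square sum of nine signed degrees in `15840`. -/
def T9 (n₁ n₂ n₃ n₄ n₅ : ℕ) : ℤ :=
  1 - 10 * (n₁ : ℤ) + 12 * n₂ - 32 * n₃ + 45 * n₄ - 120 * n₅

/-- The conditions on nine signed degrees in `15840`. -/
def ok9 (n₁ n₂ n₃ n₄ n₅ : ℕ) : Bool :=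
  let T := T9 n₁ n₂ n₃ n₄ n₅
  decide (2 ≤ T.natAbs) && decide (15840 % T.natAbs = 0) && decide ((T - 10) % 11 = 0) &&
    decide ((1 : ℤ) + 100 * n₁ + 144 * n₂ + 1024 * n₃ + 2025 * n₄ + 14400 * n₅ + T ^ 2 ≤ 15840)

theorem no_big : ∀ n₁ n₂ n₃ : Fin 10, ∀ n₅ : Fin 10, 0 < n₅.1 → n₁.1 + n₂.1 + n₃.1 + n₅.1 ≤ 9 →
    ok9 n₁ n₂ n₃ (9 - n₁ - n₂ - n₃ - n₅) n₅ = false := by
  decide +kernel

theorem ten_le : ∀ n₁ n₂ n₃ : Fin 10, n₁.1 + n₂.1 + n₃.1 ≤ 9 →
    ok9 n₁ n₂ n₃ (9 - n₁ - n₂ - n₃) 0 = true →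
      10 ≤ (T9 n₁ n₂ n₃ (9 - n₁ - n₂ - n₃) 0).natAbs := by
  decide +kernel

/-- The possible sums of `n` values from `opts` whose squares sum to `Q`. -/
def sums (opts : List ℤ) : ℕ → ℤ → List ℤ
  | 0, Q => if Q = 0 then [0] else []
  | n + 1, Q => opts.flatMap fun x =>
      if x * x ≤ Q then (sums opts n (Q - x * x)).map (x + ·) else []

theorem sum_mem_sums (opts : List ℤ) : ∀ (l : List ℤ), (∀ x ∈ l, x ∈ opts) →
    l.sum ∈ sums opts l.length (l.map fun x => x * x).sum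
  | [], _ => by simp [sums]
  | x :: l, h => by
    have hnn : 0 ≤ (l.map fun x => x * x).sum :=
      List.sum_nonneg fun y hy => by
        obtain ⟨z, -, rfl⟩ := List.mem_map.mp hy
        exact mul_self_nonneg z
    simp only [List.length_cons, List.map_cons, List.sum_cons, sums, List.mem_flatMap]
    refine ⟨x, h x List.mem_cons_self, ?_⟩
    rw [if_pos (by linarith), List.mem_map]
    exact ⟨l.sum, by simpa using sum_mem_sums opts l (fun y hy => h y (List.mem_cons_of_mem _ hy)),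
      rfl⟩

/-- The values at an involution allowed for the four small signed degrees. -/
def opts : Fin 4 → List ℤ :=
  ![[2, -2, 6, -6], [0, 4, -4, 8, -8], [0, 4, -4, 8, -8], [1, -3, 5, -7, 9]]

/-- The tests at an involution with centraliser of order `10 f`. -/
def bad (f n₁ n₂ n₃ : ℕ) (β : ℤ) (q₁ q₂ q₃ q₄ : ℕ) : Bool :=
  let n₄ := 9 - n₁ - n₂ - n₃
  let T := T9 n₁ n₂ n₃ n₄ 0
  decide (β * β + q₁ + q₂ + q₃ + q₄ + 1 ≤ 10 * (f : ℤ)) &&
    decide ((1440 - 144 * (q₁ : ℤ) + 120 * q₂ - 45 * q₃ + 32 * q₄) * T.natAbs -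
      1440 * T.sign * (β * β) = 100 * (f : ℤ) * f * T.natAbs) &&
    (sums (opts 0) n₁ q₁).any fun x₁ => (sums (opts 1) n₂ q₂).any fun x₂ =>
      (sums (opts 2) n₃ q₃).any fun x₃ => (sums (opts 3) n₄ q₄).any fun x₄ =>
        decide (1 - x₁ + x₂ - x₃ + x₄ = T.sign * β)

/-- The search. -/
def search : Bool :=
  ([1, 2, 3, 4, 6, 8, 9, 11, 12] : List ℕ).all fun f => (List.range 10).all fun n₁ =>
    (List.range (10 - n₁)).all fun n₂ => (List.range (10 - n₁ - n₂)).all fun n₃ =>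
      !(ok9 n₁ n₂ n₃ (9 - n₁ - n₂ - n₃) 0) ||
        (List.range 21).all fun (b : ℕ) => !(decide (((b : ℤ) - 10) * ((b : ℤ) - 10) < 10 * (f : ℤ)) &&
            decide (((T9 n₁ n₂ n₃ (9 - n₁ - n₂ - n₃) 0).natAbs - ((b : ℤ) - 10)) % 4 = 0)) ||
          (List.range (if n₁ = 0 then 1 else (10 * f - 4 * n₁) / 32 + 1)).all fun i₁ =>
          (List.range (if n₂ = 0 then 1 else 10 * f / 16 + 1)).all fun i₂ =>
          (List.range (if n₃ = 0 then 1 else (10 * f - 16 * i₂) / 16 + 1)).all fun i₃ =>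
          (List.range (if n₁ + n₂ + n₃ = 9 then 1 else
              (10 * f - 16 * i₂ - 16 * i₃ - 32 * i₁) / 8 + 1)).all fun i₄ =>
            !(bad f n₁ n₂ n₃ ((b : ℤ) - 10) (4 * n₁ + 32 * i₁) (16 * i₂) (16 * i₃)
              ((9 - n₁ - n₂ - n₃) + 8 * i₄))

theorem search_true : search = true := by decide +kernel

end Cfsg.Agent.Lib.RecogThree.M12.Graph.Arith
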