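import Cfsg.Agent.Lib.RecogThree.M12.Graph.M11Facts
import Mathlib.GroupTheory.Transfer

/-!
A perfect central extension of the simple group of order `7920` by a `{2, 3}`-group is trivial.
-/

set_option autoImplicit false
set_option linter.style.haveILetI false
set_option linter.unusedSectionVars false

namespace Cfsg.Agent.Lib.RecogThree.M12.Graph.Central11

universe u v

variable {D : Type u} [Group D] [Finite D]

/-- In a perfect group, a central element of `H` has its index power in the derived subgroup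
of `H`. -/
theorem pow_index_mem (hp : commutator D = ⊤) (H : Subgroup D) {z : D}
    (hz : z ∈ Subgroup.center D) (hzH : z ∈ H) :
    (⟨z, hzH⟩ : H) ^ H.index ∈ commutator H := by
  set τ : D →* Abelianization H := MonoidHom.transfer (Abelianization.of (G := H))
  have hτ : τ z = 1 := by
    have : (⊤ : Subgroup D) ≤ τ.ker := hp ▸ Abelianization.commutator_subset_ker τ
    exact this (Subgroup.mem_top z)
  have key : ∀ (k : ℕ) (g₀ : D), g₀⁻¹ * z ^ k * g₀ ∈ H → g₀⁻¹ * z ^ k * g₀ = z ^ k := by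
    intro k g₀ _
    rw [mul_assoc, ← Subgroup.mem_center_iff.mp (pow_mem hz k) g₀, inv_mul_cancel_left]
  rw [MonoidHom.transfer_eq_pow _ z key] at hτ
  rw [← Abelianization.ker_of, MonoidHom.mem_ker]
  exact hτ

/-- The commutators of a closure lie in a subgroup which is normalised by the generators and
contains their commutators. -/
theorem commutator_le_of_closure {H : Subgroup D} {X : Set D} (hH : H = Subgroup.closure X)
    (C : Subgroup D) (hCH : ∀ x ∈ X, ∀ c ∈ C, x * c * x⁻¹ ∈ C)
    (hX : ∀ x ∈ X, ∀ y ∈ X, x * y * x⁻¹ * y⁻¹ ∈ C) :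
    ∀ w ∈ commutator H, (w : D) ∈ C := by
  have hN : H ≤ Subgroup.normalizer (C : Set D) := by
    rw [hH, Subgroup.closure_le]
    intro x hx
    exact Subgroup.mem_normalizer_fintype (hCH x hx)
  have hsub : ∀ a ∈ H, ∀ b ∈ H, a * b * a⁻¹ * b⁻¹ ∈ C := by
    have hconj : ∀ a ∈ H, ∀ c ∈ C, a * c * a⁻¹ ∈ C := fun a ha c hc =>
      (Subgroup.mem_normalizer_iff.mp (hN ha) c).mp hc
    intro a ha
    rw [hH] at ha
    induction ha using Subgroup.closure_induction with
    | mem x hx =>
      intro b hb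
      rw [hH] at hb
      induction hb using Subgroup.closure_induction with
      | mem y hy => exact hX x hx y hy
      | one => simp
      | mul b b' hb _ h1 h2 =>
        have := mul_mem h1 (hconj b (hH ▸ hb) _ h2)
        convert this using 1; group
      | inv b hb h1 =>
        have := hconj b⁻¹ (inv_mem (hH ▸ hb)) _ (inv_mem h1)
        convert this using 1; group
    | one => simp
    | mul a a' ha _ h1 h2 =>
      intro b hb
      have := mul_mem (hconj a (hH ▸ ha) _ (h2 b hb)) (h1 b hb)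
      convert this using 1; group
    | inv a ha h1 =>
      intro b hb
      have := hconj a⁻¹ (inv_mem (hH ▸ ha)) _ (inv_mem (h1 b hb))
      convert this using 1; group
  intro w hw
  rw [commutator_eq_closure] at hw
  induction hw using Subgroup.closure_induction with
  | mem w hw =>
    obtain ⟨a, b, rfl⟩ := hw
    simpa [commutatorElement_def] using hsub a a.2 b b.2
  | one => simp
  | mul a b _ _ h1 h2 => simpa using mul_mem h1 h2
  | inv a _ h1 => simpa using h1

variable {T : Type v} [Group T] [Finite T]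

theorem false_of_cover {p n : ℕ} [Fact p.Prime] (hp : commutator D = ⊤) (f : D →* T)
    (hf : Function.Surjective f) (hker : f.ker ≤ Subgroup.center D) (hcard : Nat.card T = n)
    {z : D} (hz : z ∈ f.ker) (hzp : orderOf z = p) (a b : D)
    (hS : ∃ e : ℕ, p ^ e ∣ Nat.card (Subgroup.closure ({f a, f b} : Set T)) ∧ ¬ p ^ (e + 1) ∣ n)
    (t : D) (ht : t = b * a * b⁻¹ * a⁻¹) (hta : a * t * a⁻¹ ∈ Subgroup.zpowers t)
    (htb : b * t * b⁻¹ ∈ Subgroup.zpowers t) (hzt : z ∉ Subgroup.zpowers t) : False := by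
  set H : Subgroup D := (Subgroup.closure ({f a, f b} : Set T)).comap f with hH
  have hcl : H = Subgroup.closure ({a, b} ∪ (f.ker : Set D)) := by
    rw [hH, Subgroup.closure_union, Subgroup.closure_eq, ← Subgroup.comap_map_eq,
      MonoidHom.map_closure, Set.image_pair]
  have hzH : z ∈ H := by rw [hH, Subgroup.mem_comap, MonoidHom.mem_ker.mp hz]; exact one_mem _
  have hcen : ∀ {k : D}, k ∈ f.ker → ∀ g : D, g * k = k * g := fun hk g =>
    Subgroup.mem_center_iff.mp (hker hk) g
  have hmem := commutator_le_of_closure hcl (Subgroup.zpowers t) (by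
      intro x hx c hc
      obtain ⟨k, rfl⟩ := Subgroup.mem_zpowers_iff.mp hc
      rw [← conj_zpow]
      rcases hx with (rfl | rfl) | hx
      · exact zpow_mem hta k
      · exact zpow_mem htb k
      · rw [← hcen hx, mul_inv_cancel_right]
        exact Subgroup.zpow_mem _ (Subgroup.mem_zpowers t) k) (by
      intro x hx y hy
      rcases hy with hy | hy
      · rcases hx with hx | hx
        · rcases hx with rfl | rfl <;> rcases hy with rfl | rfl
          · simp
          · have : x * y * x⁻¹ * y⁻¹ = t⁻¹ := by rw [ht]; group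
            rw [this]; exact inv_mem (Subgroup.mem_zpowers t)
          · rw [← ht]; exact Subgroup.mem_zpowers t
          · simp
        · rw [← hcen hx y, mul_inv_cancel_right, mul_inv_cancel]; exact one_mem _
      · rw [hcen hy x, mul_inv_cancel_right, mul_inv_cancel]; exact one_mem _)
  have hidx : ¬ p ∣ H.index := by
    obtain ⟨e, he, hne⟩ := hS
    rw [hH, Subgroup.index_comap_of_surjective _ hf]
    intro hd
    apply hne
    rw [← hcard, ← Subgroup.card_mul_index (Subgroup.closure ({f a, f b} : Set T)), pow_succ]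
    exact mul_dvd_mul he hd
  have h1 := hmem _ (pow_index_mem hp H (hker hz) hzH)
  rw [SubmonoidClass.coe_pow] at h1
  refine hzt ?_
  obtain ⟨m, hm⟩ := exists_pow_eq_self_of_coprime (x := z) (n := H.index)
    (by rw [hzp]; exact ((Fact.out : p.Prime).coprime_iff_not_dvd.mpr hidx).symm)
  rw [← hm]
  exact pow_mem h1 m

variable [IsSimpleGroup T] (h : Nat.card T = 7920)
include h

theorem no_two (hp : commutator D = ⊤) (f : D →* T) (hf : Function.Surjective f)
    (hker : f.ker ≤ Subgroup.center D) {z : D} (hz : z ∈ f.ker) : orderOf z ≠ 2 := by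
  intro hz2
  haveI : Fact (Nat.Prime 2) := ⟨Nat.prime_two⟩
  obtain ⟨a', b', ha, hb, hab⟩ := M11Facts.exists_two h
  obtain ⟨a, rfl⟩ := hf a'
  obtain ⟨b, rfl⟩ := hf b'
  have hbinv : (f b)⁻¹ = f b := (eq_inv_of_mul_eq_one_left hb).symm
  set t := b * a * b⁻¹ * a⁻¹ with ht
  have hft : f t = f a ^ 2 := by
    rw [ht, map_mul, map_mul, map_mul, map_inv, map_inv, hbinv, hab, pow_succ,
      mul_inv_cancel_right]
  obtain ⟨k₀, hk₀, e₀⟩ : ∃ k ∈ f.ker, t = a ^ 2 * k := ⟨(a ^ 2)⁻¹ * t, by
    rw [MonoidHom.mem_ker, map_mul, map_inv, map_pow, hft, inv_mul_cancel], by group⟩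
  have hc := Subgroup.mem_center_iff.mp (hker hk₀)
  have hbb : b * b ∈ Subgroup.center D := hker (by rw [MonoidHom.mem_ker, map_mul, hb])
  have hat : Commute a t := by
    rw [e₀]; exact ((Commute.refl a).pow_right 2).mul_right (hc a)
  have hbab : b * a * b⁻¹ = a ^ 3 * k₀ := by
    have : b * a * b⁻¹ = t * a := by rw [ht]; group
    rw [this, ← hat.eq, e₀, ← mul_assoc]; group
  have hbt : b * t * b⁻¹ = t ^ 3 := by
    calc b * t * b⁻¹ = (b * a * b⁻¹) ^ 2 * (b * k₀ * b⁻¹) := by rw [e₀, conj_pow]; group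
      _ = (a ^ 3 * k₀) ^ 2 * k₀ := by rw [hbab, hc b, mul_inv_cancel_right]
      _ = (a ^ 2) ^ 3 * k₀ ^ 3 := by
          rw [(Commute.mul_pow (hc _) 2), pow_succ k₀ 2, ← mul_assoc, ← pow_mul, ← pow_mul]
      _ = t ^ 3 := by rw [e₀, Commute.mul_pow (hc _) 3]
  have ht4 : t ^ 4 = 1 := by
    have h2 : b * (b * a * b⁻¹) * b⁻¹ = a := by
      calc b * (b * a * b⁻¹) * b⁻¹ = b * b * a * (b * b)⁻¹ := by group
        _ = a := by rw [← Subgroup.mem_center_iff.mp hbb a, mul_inv_cancel_right]
    have h3 : b * (b * a * b⁻¹) * b⁻¹ = t ^ 4 * a := by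
      conv_lhs => rw [show b * a * b⁻¹ = t * a by rw [ht]; group]
      calc b * (t * a) * b⁻¹ = (b * t * b⁻¹) * (b * a * b⁻¹) := by group
        _ = t ^ 3 * (t * a) := by rw [hbt, show b * a * b⁻¹ = t * a by rw [ht]; group]
        _ = t ^ 4 * a := by rw [← mul_assoc, ← pow_succ]
    exact mul_eq_right.mp (h3.symm.trans h2)
  have ha8 : f a ^ 8 = 1 := ha ▸ pow_orderOf_eq_one _
  refine false_of_cover (n := 7920) (p := 2) hp f hf hker h hz hz2 a b ⟨4, ?_, by norm_num⟩ t ht
    (by rw [hat.eq, mul_inv_cancel_right]; exact Subgroup.mem_zpowers t)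
    (by rw [hbt]; exact pow_mem (Subgroup.mem_zpowers t) 3) ?_
  · set S := Subgroup.closure ({f a, f b} : Set T)
    have hS : S = Subgroup.zpowers (f b) ⊔ Subgroup.zpowers (f a) := by
      rw [Subgroup.zpowers_eq_closure, Subgroup.zpowers_eq_closure, ← Subgroup.closure_union,
        Set.singleton_union, Set.pair_comm]
    have hN : Subgroup.zpowers (f b) ≤ Subgroup.normalizer (Subgroup.zpowers (f a) : Set T) := by
      rw [Subgroup.zpowers_le]
      refine Subgroup.mem_normalizer_fintype ?_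
      intro c hc'
      obtain ⟨k, rfl⟩ := Subgroup.mem_zpowers_iff.mp hc'
      rw [← conj_zpow, hbinv, hab]
      exact zpow_mem (pow_mem (Subgroup.mem_zpowers _) 3) k
    have hpg : IsPGroup 2 S := by
      rw [hS]
      refine IsPGroup.to_sup_of_normal_right' ?_ ?_ hN
      · intro g
        refine ⟨1, ?_⟩
        obtain ⟨g, hg⟩ := g
        obtain ⟨k, rfl⟩ := Subgroup.mem_zpowers_iff.mp hg
        apply Subtype.ext
        show (f b ^ k) ^ (2 ^ 1) = 1
        rw [pow_one, pow_two, ← (Commute.refl (f b)).mul_zpow, hb, one_zpow]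
      · exact IsPGroup.of_card (n := 3) (by rw [Nat.card_zpowers, ha]; norm_num)
    obtain ⟨e, he⟩ := IsPGroup.iff_card.mp hpg
    have hle : Subgroup.zpowers (f a) ≤ S := hS ▸ le_sup_right
    have h8 : 8 < Nat.card S := by
      by_contra hh
      push Not at hh
      have := Subgroup.eq_of_le_of_card_ge hle (by rw [Nat.card_zpowers, ha]; exact hh)
      have hbS : f b ∈ Subgroup.zpowers (f a) := by
        rw [this]; exact Subgroup.subset_closure (by simp)
      obtain ⟨k, hk⟩ := Subgroup.mem_zpowers_iff.mp hbS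
      have hcom : Commute (f b) (f a) := hk ▸ (Commute.refl (f a)).zpow_left k
      rw [hcom.eq, mul_assoc, hb, mul_one] at hab
      have : f a ^ 2 = 1 := by
        have := hab.symm
        rw [pow_succ] at this
        exact mul_eq_right.mp this
      have := orderOf_dvd_of_pow_eq_one this
      rw [ha] at this
      norm_num at this
    rw [he] at h8 ⊢
    refine Nat.pow_dvd_pow 2 ?_
    by_contra hh
    push Not at hh
    have : 2 ^ e ≤ 2 ^ 3 := Nat.pow_le_pow_right (by norm_num) (by omega)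
    omega
  · intro hzt
    obtain ⟨k, hk⟩ := mem_powers_iff_mem_zpowers.mpr hzt
    have hk' : t ^ k = z := hk
    have : f a ^ (2 * k) = 1 := by
      rw [pow_mul, ← hft, ← map_pow, hk', MonoidHom.mem_ker.mp hz]
    have h8 := orderOf_dvd_of_pow_eq_one this
    rw [ha] at h8
    obtain ⟨q, hq⟩ : 4 ∣ k := by omega
    rw [hq, pow_mul, ht4, one_pow] at hk'
    rw [← hk', orderOf_one] at hz2
    omega

theorem no_three (hp : commutator D = ⊤) (f : D →* T) (hf : Function.Surjective f)
    (hker : f.ker ≤ Subgroup.center D) {z : D} (hz : z ∈ f.ker) : orderOf z ≠ 3 := by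
  intro hz3
  haveI : Fact (Nat.Prime 3) := ⟨Nat.prime_three⟩
  obtain ⟨a', b', n', ha, hb, hab, hn, hna, hnb⟩ := M11Facts.exists_three h
  obtain ⟨a, rfl⟩ := hf a'
  obtain ⟨b, rfl⟩ := hf b'
  obtain ⟨n, rfl⟩ := hf n'
  have hninv : (f n)⁻¹ = f n := (eq_inv_of_mul_eq_one_left hn).symm
  set t := b * a * b⁻¹ * a⁻¹ with ht
  have htk : t ∈ f.ker := by
    rw [MonoidHom.mem_ker, ht, map_mul, map_mul, map_mul, map_inv, map_inv, ← hab.eq,
      mul_inv_cancel_right, mul_inv_cancel]
  have htc := Subgroup.mem_center_iff.mp (hker htk)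
  have hb3 : b ^ 3 ∈ Subgroup.center D :=
    hker (by rw [MonoidHom.mem_ker, map_pow, ← hb, pow_orderOf_eq_one])
  have hconj : ∀ j : ℕ, b ^ j * a * (b ^ j)⁻¹ = t ^ j * a := by
    intro j
    induction j with
    | zero => simp
    | succ j ih =>
      calc b ^ (j + 1) * a * (b ^ (j + 1))⁻¹ = b * (b ^ j * a * (b ^ j)⁻¹) * b⁻¹ := by group
        _ = (b * t ^ j) * a * b⁻¹ := by rw [ih]; group
        _ = t ^ j * (b * a * b⁻¹) := by
            rw [((show Commute b t from htc b).pow_right j).eq]; group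
        _ = t ^ j * (t * a) := by rw [show b * a * b⁻¹ = t * a by rw [ht]; group]
        _ = t ^ (j + 1) * a := by rw [pow_succ, mul_assoc (t ^ j) t a]
  have ht3 : t ^ 3 = 1 := by
    have := hconj 3
    rw [← Subgroup.mem_center_iff.mp hb3 a, mul_inv_cancel_right] at this
    exact mul_eq_right.mp this.symm
  have ht2 : t ^ 2 = 1 := by
    obtain ⟨k₁, hk₁, e₁⟩ : ∃ k ∈ f.ker, n * a * n⁻¹ = a * k := ⟨a⁻¹ * (n * a * n⁻¹), by
      rw [MonoidHom.mem_ker, map_mul, map_mul, map_mul, map_inv, map_inv, hninv, hna,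
        inv_mul_cancel], by group⟩
    obtain ⟨k₂, hk₂, e₂⟩ : ∃ k ∈ f.ker, n * b * n⁻¹ = b⁻¹ * k := ⟨b * (n * b * n⁻¹), by
      rw [MonoidHom.mem_ker, map_mul, map_mul, map_mul, map_inv, hninv, hnb,
        mul_inv_cancel], by group⟩
    have c₁ := Subgroup.mem_center_iff.mp (hker hk₁)
    have c₂ := Subgroup.mem_center_iff.mp (hker hk₂)
    have e : t = b⁻¹ * a * b * a⁻¹ := by
      calc t = n * t * n⁻¹ := by rw [htc n, mul_inv_cancel_right]
        _ = (n * b * n⁻¹) * (n * a * n⁻¹) * (n * b * n⁻¹)⁻¹ * (n * a * n⁻¹)⁻¹ := by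
            rw [ht]; group
        _ = b⁻¹ * (k₂ * (a * k₁)) * k₂⁻¹ * b * (a * k₁)⁻¹ := by rw [e₁, e₂]; group
        _ = b⁻¹ * (a * k₁) * b * (a * k₁)⁻¹ := by rw [← c₂ (a * k₁)]; group
        _ = b⁻¹ * a * (b * k₁) * k₁⁻¹ * a⁻¹ := by rw [c₁ b]; group
        _ = b⁻¹ * a * b * a⁻¹ := by group
    have e' : b * t * b⁻¹ = t⁻¹ := by
      conv_lhs => rw [e]
      rw [ht]; group
    rw [htc b, mul_inv_cancel_right] at e'
    rw [pow_two]
    exact eq_inv_iff_mul_eq_one.mp e'
  have ht1 : t = 1 := by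
    calc t = t ^ 3 * (t ^ 2)⁻¹ := by group
      _ = 1 := by rw [ht3, ht2, inv_one, mul_one]
  refine false_of_cover (n := 7920) (p := 3) hp f hf hker h hz hz3 a b ⟨2, ?_, by norm_num⟩ t ht
    (by rw [ht1, mul_one, mul_inv_cancel]; exact one_mem _)
    (by rw [ht1, mul_one, mul_inv_cancel]; exact one_mem _) ?_
  · set S := Subgroup.closure ({f a, f b} : Set T)
    have hS : S = Subgroup.zpowers (f b) ⊔ Subgroup.zpowers (f a) := by
      rw [Subgroup.zpowers_eq_closure, Subgroup.zpowers_eq_closure, ← Subgroup.closure_union,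
        Set.singleton_union, Set.pair_comm]
    have hN : Subgroup.zpowers (f b) ≤ Subgroup.normalizer (Subgroup.zpowers (f a) : Set T) := by
      rw [Subgroup.zpowers_le]
      refine Subgroup.mem_normalizer_fintype ?_
      intro c hc'
      obtain ⟨k, rfl⟩ := Subgroup.mem_zpowers_iff.mp hc'
      rw [← (hab.zpow_left k).eq.trans rfl] at *
      rw [mul_inv_cancel_right]
      exact Subgroup.zpow_mem _ (Subgroup.mem_zpowers _) k
    have hpg : IsPGroup 3 S := by
      rw [hS]
      exact IsPGroup.to_sup_of_normal_right'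
        (IsPGroup.of_card (n := 1) (by rw [Nat.card_zpowers, hb]; norm_num))
        (IsPGroup.of_card (n := 1) (by rw [Nat.card_zpowers, ha]; norm_num)) hN
    obtain ⟨e, he⟩ := IsPGroup.iff_card.mp hpg
    have hle : Subgroup.zpowers (f a) ≤ S := hS ▸ le_sup_right
    have h3 : 3 < Nat.card S := by
      by_contra hh
      push Not at hh
      have := Subgroup.eq_of_le_of_card_ge hle (by rw [Nat.card_zpowers, ha]; exact hh)
      have hbS : f b ∈ Subgroup.zpowers (f a) := by
        rw [this]; exact Subgroup.subset_closure (by simp)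
      obtain ⟨k, hk⟩ := Subgroup.mem_zpowers_iff.mp hbS
      have h1 : f n * f b * f n = f b := by
        rw [← hk]
        conv_lhs => rw [← hninv]; rw [show (f n)⁻¹ * f a ^ k * (f n)⁻¹ = f n * f a ^ k * (f n)⁻¹ by rw [hninv]]
        rw [← conj_zpow, hninv, hna]
      rw [hnb] at h1
      have : f b ^ 2 = 1 := by rw [pow_two]; exact inv_eq_iff_mul_eq_one.mp h1
      have := orderOf_dvd_of_pow_eq_one this
      rw [hb] at this
      norm_num at this
    rw [he] at h3 ⊢
    refine Nat.pow_dvd_pow 3 ?_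
    by_contra hh
    push Not at hh
    have : 3 ^ e ≤ 3 ^ 1 := Nat.pow_le_pow_right (by norm_num) (by omega)
    omega
  · rw [ht1, Subgroup.zpowers_one_eq_bot, Subgroup.mem_bot]
    intro hh
    rw [hh, orderOf_one] at hz3
    omega

/-- The kernel is trivial. -/
theorem ker_eq_bot (hp : commutator D = ⊤) (f : D →* T) (hf : Function.Surjective f)
    (hker : f.ker ≤ Subgroup.center D) (hd : Nat.card f.ker ∣ 12) : f.ker = ⊥ := by
  by_contra hne
  obtain ⟨q, hq, hqd⟩ := Nat.exists_prime_and_dvd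
    (show Nat.card f.ker ≠ 1 from fun e => hne (Subgroup.eq_bot_of_card_eq _ e))
  haveI : Fact q.Prime := ⟨hq⟩
  obtain ⟨⟨z, hz⟩, hzo⟩ := exists_prime_orderOf_dvd_card' (G := f.ker) q hqd
  rw [Subgroup.orderOf_mk] at hzo
  have hq12 := hqd.trans hd
  have : q ∣ 2 ^ 2 ∨ q ∣ 3 := hq.dvd_mul.mp (by simpa using hq12)
  rcases this with e | e
  · exact no_two h hp f hf hker hz
      (hzo.trans ((Nat.prime_dvd_prime_iff_eq hq Nat.prime_two).mp (hq.dvd_of_dvd_pow e)))
  · exact no_three h hp f hf hker hz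
      (hzo.trans ((Nat.prime_dvd_prime_iff_eq hq Nat.prime_three).mp e))

end Cfsg.Agent.Lib.RecogThree.M12.Graph.Central11
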