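import Cfsg.Agent.Lib.RecogThree.M12.Table

/-!
A simple group of order `95040` has irreducible degrees divisible by `55` and by `33`.
-/

set_option autoImplicit false
set_option linter.style.haveILetI false
set_option linter.unusedSectionVars false

namespace Cfsg.Agent.Lib.RecogThree.M12.Graph.Degrees12

open Cfsg.Agent.Lib.Classif.PrimeExceptional (deg apply_one_eq)
open Finset

universe u

variable {G : Type u} [Group G] [Finite G] [IsSimpleGroup G]

theorem exists_degrees (h : Nat.card G = 95040) :
    (∃ χ : Cfsg.IrrCharacter G, 55 ∣ Cfsg.charDegree (χ : G → ℂ)) ∧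
      ∃ χ : Cfsg.IrrCharacter G, 33 ∣ Cfsg.charDegree (χ : G → ℂ) := by
  classical
  haveI : Fact (Nat.Prime 11) := ⟨by norm_num⟩
  letI := Fintype.ofFinite G
  letI := Fintype.ofFinite (Cfsg.IrrCharacter G)
  obtain ⟨B⟩ := Eleven.exists_base h
  obtain ⟨D⟩ := Table.exists_data B
  refine ⟨?_, ⟨D.T.f66, ?_⟩⟩
  · obtain ⟨-, -, hcase⟩ := Column.columns D.T
    have hsum : ∑ χ ∈ univ.filter (Column.Rest D.T), deg χ = 187 ∨
        ∑ χ ∈ univ.filter (Column.Rest D.T), deg χ = 165 := by
      rcases hcase with ⟨a, b, -, -, -, -, -, -, -, -, hs⟩ | hs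
      · exact Or.inl hs
      · exact Or.inr hs
    by_contra hne
    push Not at hne
    have hab : univ.filter (Column.Rest D.T) = {D.a, D.b} := by
      ext χ
      simp only [mem_filter, mem_univ, true_and, mem_insert, mem_singleton]
      refine ⟨fun hR => ?_, ?_⟩
      · by_contra hh
        push Not at hh
        have h55 := (D.rest χ hR hh.1 hh.2).1
        rw [deg] at h55
        exact hne χ (by rw [show Cfsg.charDegree (χ : G → ℂ) = 55 by exact_mod_cast h55])
      · rintro (rfl | rfl)
        · exact D.ha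
        · exact D.hb
    rw [hab, sum_pair D.hab, D.ha11, D.hb11] at hsum
    omega
  · have h66 := D.T.h66.1
    rw [deg] at h66
    rw [show Cfsg.charDegree (D.T.f66 : G → ℂ) = 66 by exact_mod_cast h66]
    norm_num

end Cfsg.Agent.Lib.RecogThree.M12.Graph.Degrees12
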