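import Cfsg.Agent.Lib.RecogThree.M12.Graph.Small
import Cfsg.Agent.Lib.RecogThree.M11.Order7920

/-!
Simple groups of order dividing `95040` with `144` Sylow `11`-subgroups and `|N : C| ∈ {5, 10}`
whose centraliser `C` has order `22`, `33`, `44` or `66`: none of the candidate orders.
-/

set_option autoImplicit false
set_option linter.style.haveILetI false
set_option linter.unusedSectionVars false

namespace Cfsg.Agent.Lib.RecogThree.M12.Graph.Five

open Cfsg.Agent.Lib.Characters Cfsg.Agent.Lib.Characters.Basic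
open Cfsg.Agent.Lib.Classif Cfsg.Agent.Lib.Classif.SmallOrderKills3
open Cfsg.Agent.Lib.Classif.PrimeExceptional (deg apply_one_eq)
open Finset

universe u

variable {G : Type u} [Group G] [Finite G]

/-- An element of order five of `N(P)` centralises an element of order two or three of `C(P)`. -/
theorem exists_qw {P : Subgroup G} {k : ℕ} (hk : k = 2 ∨ k = 3 ∨ k = 4 ∨ k = 6)
    (hC : Nat.card (Subgroup.centralizer (P : Set G)) = 11 * k)
    (h5 : 5 ∣ Nat.card (Subgroup.normalizer (P : Set G))) :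
    ∃ q w : G, q ∈ Subgroup.centralizer (P : Set G) ∧
      ((k = 3 ∧ orderOf q = 3) ∨ (k ≠ 3 ∧ orderOf q = 2)) ∧
      orderOf w = 5 ∧ w ∈ Subgroup.normalizer (P : Set G) ∧ Commute w q := by
  set C := Subgroup.centralizer (P : Set G)
  set N := Subgroup.normalizer (P : Set G)
  obtain ⟨r, a, m, hr, hq, hfac, hm, ha⟩ : ∃ r a m : ℕ, r.Prime ∧
      ((k = 3 ∧ r = 3) ∨ (k ≠ 3 ∧ r = 2)) ∧ 11 * k = r ^ a * m ∧ ¬ r ∣ m ∧ (0 < a ∧ r ^ a < 5) := by
    rcases hk with rfl | rfl | rfl | rfl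
    · exact ⟨2, 1, 11, by norm_num⟩
    · exact ⟨3, 1, 11, by norm_num⟩
    · exact ⟨2, 2, 11, by norm_num⟩
    · exact ⟨2, 1, 33, by norm_num⟩
  haveI : Fact r.Prime := ⟨hr⟩
  haveI : Fact (Nat.Prime 5) := ⟨by norm_num⟩
  haveI : (C.subgroupOf N).Normal := Subgroup.normal_subgroupOf_centralizer_normalizer _
  obtain ⟨S⟩ := (inferInstance : Nonempty (Sylow r (C.subgroupOf N)))
  set K := Subgroup.normalizer
    ((((S : Subgroup (C.subgroupOf N)).map (C.subgroupOf N).subtype : Subgroup N)) : Set N)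
  have hsup : K ⊔ C.subgroupOf N = ⊤ := Sylow.normalizer_sup_eq_top S
  have hCc : Nat.card (C.subgroupOf N) = 11 * k := by
    rw [Nat.card_congr (Subgroup.subgroupOfEquivOfLe
      (Subgroup.centralizer_le_normalizer _)).toEquiv, hC]
  have h5K : 5 ∣ Nat.card K := by
    have hdvd : Nat.card N ∣ Nat.card K * Nat.card (C.subgroupOf N) := by
      rw [← Subgroup.card_mul_index (C.subgroupOf N), mul_comm (Nat.card K)]
      refine Nat.mul_dvd_mul_left _ ?_
      rw [← Subgroup.relIndex_top_right, ← hsup, Subgroup.relIndex_sup_right]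
      exact Subgroup.relIndex_dvd_card _ _
    rcases (Nat.Prime.dvd_mul (by norm_num)).mp (h5.trans hdvd) with h' | h'
    · exact h'
    · rw [hCc] at h'; omega
  obtain ⟨⟨⟨w, hwN⟩, hwK⟩, hwo⟩ := exists_prime_orderOf_dvd_card' (G := K) 5 h5K
  rw [Subgroup.orderOf_mk, Subgroup.orderOf_mk] at hwo
  set S' : Subgroup G :=
    ((S : Subgroup (C.subgroupOf N)).map (C.subgroupOf N).subtype).map N.subtype
  have hS'C : S' ≤ C := by
    rintro _ ⟨a, ⟨b, -, rfl⟩, rfl⟩
    exact b.2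
  have hS'card : Nat.card S' = r ^ a := by
    rw [Subgroup.card_map_of_injective N.subtype_injective,
      Subgroup.card_map_of_injective (C.subgroupOf N).subtype_injective]
    exact SmallGroups.Sylow.card_sylow_eq S (hCc.trans hfac) hm
  have hwS : w ∈ Subgroup.normalizer (S' : Set G) :=
    Subgroup.le_normalizer_map N.subtype ⟨⟨w, hwN⟩, hwK, rfl⟩
  have hcomm := M11.Order7920.centralizes hwo S' hwS fun d hd hmod => by
    rw [hS'card] at hd hmod ⊢
    have := Nat.le_of_dvd (pow_pos hr.pos a) hd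
    omega
  obtain ⟨⟨q, hqS⟩, hqo⟩ := exists_prime_orderOf_dvd_card' (G := S') r
    (hS'card ▸ dvd_pow_self r (by omega))
  rw [Subgroup.orderOf_mk] at hqo
  refine ⟨q, w, hS'C hqS, ?_, hwo, hwN, (hcomm q hqS).symm⟩
  rcases hq with ⟨h1, h2⟩ | ⟨h1, h2⟩
  · exact Or.inl ⟨h1, hqo.trans h2⟩
  · exact Or.inr ⟨h1, hqo.trans h2⟩

variable [IsSimpleGroup G] (hG : ¬ IsMulCommutative G) [Fact (Nat.Prime 11)] {g : ℕ}
  (h : Nat.card G = g) {P : Sylow 11 G} (hP : Nat.card (P : Subgroup G) = 11) {e : ℕ}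
  (D : FirstPowerData.Data P e)

include hG h hP D

/-- The signed degrees avoid `-10`, `12` and `45`. -/
theorem codes (hg : g ∈ Arith.orders) {q w : G}
    (hq : q ∈ Subgroup.centralizer ((P : Subgroup G) : Set G)) (hqo : orderOf q = 2 ∨ orderOf q = 3)
    (hwo : orderOf w = 5) (hcomm : Commute w q) (h25 : ¬ 25 ∣ g) :
    ∃ f : Cfsg.IrrCharacter G → Fin 5, ∀ χ ∈ D.K,
      D.a χ * deg χ = Arith.code (f χ) ∧ f χ ≠ 0 := by
  have hperf := SmallGroups.Sylow.commutator_eq_top hG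
  have hidx : ¬ 5 ∣ (Subgroup.centralizer ({q} : Set G)).index := fun h' => by
    have h5C : 5 ∣ Nat.card (Subgroup.centralizer ({q} : Set G)) :=
      hwo ▸ Subgroup.orderOf_dvd_natCard _ (Subgroup.mem_centralizer_singleton_iff.mpr hcomm.eq)
    refine h25 ?_
    rw [← h, ← Subgroup.card_mul_index (Subgroup.centralizer ({q} : Set G))]
    exact Nat.mul_dvd_mul h5C h'
  have hex : ∀ χ ∈ D.K, ∃ i : Fin 5, D.a χ * deg χ = Arith.code i ∧ i ≠ 0 := fun χ hχ => by
    obtain ⟨h1, h2⟩ := Small.not_small hG hP D hχ hq hqo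
    rcases Small.signed_code hG D hperf hP hg h hχ with e' | e' | ⟨i, hi⟩
    · exact absurd e' h1
    · exact absurd e' h2
    · refine ⟨i, hi, fun e' => Small.not_45 hG hP D hχ hq hqo hidx ?_⟩
      rw [hi, e']
      rfl
  choose! f hf using hex
  exact ⟨f, hf⟩

theorem dvd_g {χ : Cfsg.IrrCharacter G} (hχ : χ ∈ D.K) {c : ℤ} (hc : D.a χ * deg χ = c) :
    c.natAbs ∣ g := by
  haveI := Fintype.ofFinite G
  rw [← hc, ← h]
  exact (FirstPowerKills.signed_facts (SmallGroups.Sylow.commutator_eq_top hG) hP D hχ).2.2.1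

/-- `e = 10`. -/
theorem ten_false (hg : g ∈ [31680, 47520]) (he : e = 10) {q w : G}
    (hq : q ∈ Subgroup.centralizer ((P : Subgroup G) : Set G)) (hqo : orderOf q = 2 ∨ orderOf q = 3)
    (hwo : orderOf w = 5) (hcomm : Commute w q) : False := by
  classical
  subst he
  haveI := Fintype.ofFinite G
  have hperf := SmallGroups.Sylow.commutator_eq_top hG
  have hg' : g ∈ Arith.orders ∧ ¬ 25 ∣ g := by
    simp only [List.mem_cons, List.not_mem_nil, or_false] at hg
    rcases hg with rfl | rfl <;> decide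
  obtain ⟨f, hf⟩ := codes hG h hP D hg'.1 hq hqo hwo hcomm hg'.2
  have hK : D.K.card = 9 := by have := D.card_K; omega
  have hfam : D.fam.card = 1 := by have := D.fam_card; omega
  set n : Fin 5 → ℕ := fun i => (D.K.filter fun χ => f χ = i).card
  have hn0 : n 0 = 0 := by
    rw [card_eq_zero, filter_eq_empty_iff]
    exact fun χ hχ => (hf χ hχ).2
  have hsum : ∀ φ : Fin 5 → ℤ, ∑ χ ∈ D.K, φ (f χ) = ∑ i, (n i : ℤ) * φ i := fun φ => by
    rw [← sum_fiberwise D.K f (fun χ => φ (f χ))]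
    refine sum_congr rfl fun i _ => ?_
    rw [sum_congr rfl (g := fun _ => φ i) fun χ hχ => by rw [(mem_filter.mp hχ).2],
      sum_const, nsmul_eq_mul]
  have htot : (n 1 : ℤ) + n 2 + n 3 + n 4 = 9 := by
    have := hsum fun _ => 1
    rw [Fin.sum_univ_five, hn0] at this
    simp only [sum_const, nsmul_eq_mul, mul_one, hK] at this
    push_cast at this
    linarith
  obtain ⟨-, hθ2, hθ3, hθ4⟩ := FirstPowerKills.theta_facts hperf D
    (S := ∑ χ ∈ D.K, Arith.code (f χ)) (sum_congr rfl fun χ hχ => (hf χ hχ).1)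
  have hsq := D.square_sum
  rw [hθ4, h, hfam, show ∑ χ ∈ D.K, deg χ ^ 2 = ∑ χ ∈ D.K, Arith.code (f χ) ^ 2 from
    sum_congr rfl fun χ hχ => by
      rw [← (FirstPowerKills.signed_facts hperf hP D hχ).2.2.2, (hf χ hχ).1]] at hsq
  rw [hsum Arith.code, Fin.sum_univ_five, hn0] at hθ2 hθ3 hsq
  rw [hsum fun i => Arith.code i ^ 2, Fin.sum_univ_five, hn0] at hsq
  rw [h] at hθ3
  simp only [Arith.code, Matrix.cons_val] at hθ2 hθ3 hsq
  push_cast at hθ2 hθ3 hsq
  have hn4 : (n 4 : ℤ) = 9 - n 1 - n 2 - n 3 := by linarith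
  rw [hn4] at hθ2 hθ3 hsq
  have hb : 0 < n 2 → 54 ∣ g := fun hpos => by
    obtain ⟨χ, hχ⟩ := card_pos.mp hpos
    obtain ⟨hχK, hχf⟩ := mem_filter.mp hχ
    have := dvd_g hG h hP D hχK (hf χ hχK).1
    rw [hχf] at this
    exact this
  refine Arith.ten g hg ⟨n 1, by omega⟩ ⟨n 2, by omega⟩ ⟨n 3, by omega⟩ (by simp only; omega) hb
    ?_ ?_ ?_
  · simp only; convert hθ2 using 2; ring
  · simp only; convert hθ3 using 2; ring
  · simp only; nlinarith

/-- `e = 5`. -/
theorem five_false (hg : g ∈ [15840, 23760, 31680, 47520]) (he : e = 5)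
    (hn : Nat.card (Sylow 11 G) = 144)
    (hC47 : g = 47520 → Nat.card (Subgroup.centralizer ((P : Subgroup G) : Set G)) = 66)
    {q w : G} (hq : q ∈ Subgroup.centralizer ((P : Subgroup G) : Set G))
    (hqo : orderOf q = 2 ∨ orderOf q = 3) (hq47 : g = 47520 → orderOf q = 2)
    (hwo : orderOf w = 5) (hwN : w ∈ Subgroup.normalizer ((P : Subgroup G) : Set G))
    (hcomm : Commute w q) : False := by
  classical
  subst he
  haveI := Fintype.ofFinite G
  have hperf := SmallGroups.Sylow.commutator_eq_top hG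
  have hg' : g ∈ Arith.orders ∧ ¬ 25 ∣ g := by
    simp only [List.mem_cons, List.not_mem_nil, or_false] at hg
    rcases hg with rfl | rfl | rfl | rfl <;> decide
  obtain ⟨f, hf⟩ := codes hG h hP D hg'.1 hq hqo hwo hcomm hg'.2
  let ι : Fin 4 ≃ {χ // χ ∈ D.K} :=
    (D.K.equivFinOfCardEq (show D.K.card = 4 by have := D.card_K; omega)).symm
  have hsumK : ∀ φ : Cfsg.IrrCharacter G → ℤ, ∑ χ ∈ D.K, φ χ =
      φ (ι 0) + φ (ι 1) + φ (ι 2) + φ (ι 3) := fun φ => by
    rw [← sum_coe_sort D.K φ, ← ι.sum_comp (fun χ => φ χ), Fin.sum_univ_four]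
  obtain ⟨-, hθ2, hθ3, hθ4⟩ := FirstPowerKills.theta_facts hperf D
    (S := ∑ χ ∈ D.K, Arith.code (f χ)) (sum_congr rfl fun χ hχ => (hf χ hχ).1)
  have hsq := D.square_sum
  rw [hθ4, h, show D.fam.card = 2 by have := D.fam_card; omega,
    show ∑ χ ∈ D.K, deg χ ^ 2 = ∑ χ ∈ D.K, Arith.code (f χ) ^ 2 from
    sum_congr rfl fun χ hχ => by
      rw [← (FirstPowerKills.signed_facts hperf hP D hχ).2.2.2, (hf χ hχ).1], hsumK, hsumK] at hsq
  rw [hsumK, h] at hθ3
  rw [hsumK] at hθ2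
  obtain ⟨hg47, i₀, hi₀⟩ := Arith.five g hg (fun i => f (ι i)) (fun i => (hf _ (ι i).2).2)
    (fun i => dvd_g hG h hP D (ι i).2 (hf _ (ι i).2).1)
    (by simp only [Arith.tot]; convert hθ2 using 2; ring)
    (by simp only [Arith.tot]; convert hθ3 using 2; ring)
    (by simp only [Arith.tot]; push_cast at hsq; linarith)
  subst hg47
  have hq2 := hq47 rfl
  have hC := hC47 rfl
  -- the value at `q`
  set Cq := Subgroup.centralizer ({q} : Set G) with hCq
  have hval : ∀ χ ∈ D.K, ∃ v : ℤ, (χ : G → ℂ) q = v ∧ (44 : ℤ) ∣ deg χ - v ∧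
      -deg χ ≤ v ∧ v < deg χ ∧ deg χ ∣ (Cq.index : ℤ) * v := fun χ hχ => by
    obtain ⟨v, hv, h11, h4, hlo, hlt⟩ :=
      FirstPowerKills.involution_value hG (by norm_num) hP D hχ hq hq2
    refine ⟨v, hv, ?_, hlo, hlt, M12.Basic.deg_dvd_index_mul χ hv⟩
    have hd : (11 : ℤ) ∣ deg χ - v := by
      have := dvd_sub (D.deg_cong hP hχ) h11
      simpa using this
    exact (show IsCoprime (11 : ℤ) 4 by norm_num).mul_dvd hd h4
  choose! v hv using hval
  have hlow : ∀ χ ∈ D.K, 100 ≤ v χ ^ 2 ∧ (f χ = 1 → 8 ∣ Cq.index) := fun χ hχ => by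
    obtain ⟨-, h44, hlo, hlt, hdk⟩ := hv χ hχ
    obtain ⟨hc, hne⟩ := hf χ hχ
    obtain ⟨j, hj⟩ := h44
    have hd := (D.two_le hperf).1 χ hχ
    have hcases : v χ ≤ -10 ∨ 10 ≤ v χ := by
      generalize f χ = i at hc hne
      fin_cases i <;> simp [Arith.code] at hc hne <;>
        rcases D.a_unit χ hχ with e' | e' <;> rw [e'] at hc <;> omega
    refine ⟨by rcases hcases with h' | h' <;> nlinarith, fun hf1 => ?_⟩
    rw [hf1] at hc
    simp only [Arith.code, Matrix.cons_val] at hc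
    obtain ⟨hd32, hv12⟩ : deg χ = 32 ∧ v χ = -12 := by
      rcases D.a_unit χ hχ with e' | e' <;> rw [e'] at hc <;> constructor <;> omega
    rw [hd32, hv12] at hdk
    omega
  have h8 := (hlow _ (ι i₀).2).2 hi₀
  obtain ⟨β, hβ, -, -⟩ := FirstPowerData.exists_int_mod_four hperf D.θ
    (show q * q = 1 by rw [← pow_two, ← hq2, pow_orderOf_eq_one])
  have hbig : 400 < (Nat.card Cq : ℤ) := by
    have hle := D.centralizer_le (g := q) (by rw [hq2]; norm_num) v β (fun χ hχ => (hv χ hχ).1) hβ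
    have h1 : ∑ _χ ∈ D.K, (100 : ℤ) ≤ ∑ χ ∈ D.K, v χ ^ 2 := sum_le_sum fun χ hχ => (hlow χ hχ).1
    rw [sum_const, nsmul_eq_mul, show D.K.card = 4 by have := D.card_K; omega] at h1
    have : (0 : ℤ) ≤ D.fam.card * β ^ 2 := by positivity
    rw [← hCq] at hle
    push_cast at h1
    linarith
  have hdvd : Nat.card Cq ∣ 5940 := by
    refine Nat.dvd_of_mul_dvd_mul_right (by norm_num : 0 < 8) ?_
    rw [show 5940 * 8 = Nat.card Cq * Cq.index by rw [Subgroup.card_mul_index, h]]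
    exact Nat.mul_dvd_mul_left _ h8
  -- the Sylow subgroup `P` inside `C(q)`
  have hPC : (P : Subgroup G) ≤ Cq := fun x hx => by
    rw [hCq, Subgroup.mem_centralizer_singleton_iff]
    exact Subgroup.mem_centralizer_iff.mp hq x hx
  set P' := P.subtype hPC
  have hP' : Nat.card (P' : Subgroup Cq) = 11 := by
    rw [Sylow.coe_subtype, Nat.card_congr (Subgroup.subgroupOfEquivOfLe hPC).toEquiv, hP]
  set M := Subgroup.normalizer ((P' : Subgroup Cq) : Set Cq)
  have hMd : Nat.card M ∣ 330 := by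
    have hN : Nat.card (Subgroup.normalizer ((P : Subgroup G) : Set G)) = 330 := by
      have := SmallGroups.Sylow.card_normalizer_mul P
      rw [h, hn] at this
      omega
    have hMG : Nat.card M = Nat.card (M.map Cq.subtype) :=
      (Subgroup.card_map_of_injective Cq.subtype_injective).symm
    rw [hMG, ← hN]
    refine Subgroup.card_dvd_of_le ?_
    rintro _ ⟨⟨x, hxC⟩, hx, rfl⟩
    change (⟨x, hxC⟩ : Cq) ∈ Subgroup.normalizer (((P : Subgroup G).subgroupOf Cq) : Set Cq) at hx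
    rw [← Subgroup.subgroupOf_normalizer_eq hPC] at hx
    exact hx
  have hM110 : 110 ∣ Nat.card M := by
    have hqw : ∀ z : G, (hz : z ∈ Cq) → z ∈ Subgroup.normalizer ((P : Subgroup G) : Set G) →
        orderOf z ∣ Nat.card M := fun z hz hzN => by
      have : (⟨z, hz⟩ : Cq) ∈ M := by
        show _ ∈ Subgroup.normalizer _
        rw [Sylow.coe_subtype, ← Subgroup.subgroupOf_normalizer_eq hPC]
        exact hzN
      have := Subgroup.orderOf_dvd_natCard M this
      rwa [Subgroup.orderOf_mk] at this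
    have h2 := hqw q (Subgroup.mem_centralizer_singleton_iff.mpr rfl)
      (Subgroup.centralizer_le_normalizer _ hq)
    have h11 : 11 ∣ Nat.card M := hP' ▸ Subgroup.card_dvd_of_le Subgroup.le_normalizer
    have hw' : w ∈ Cq := Subgroup.mem_centralizer_singleton_iff.mpr hcomm.eq
    rw [hq2] at h2
    have h5 := hqw w hw' hwN
    rw [hwo] at h5
    omega
  have hnq : Nat.card (Sylow 11 Cq) = 1 := by
    have hn' := SmallGroups.Sylow.card_normalizer_mul P'
    have h1 : 110 * Nat.card (Sylow 11 Cq) ∣ 110 * 54 :=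
      (Nat.mul_dvd_mul_right hM110 _).trans (by rw [hn']; exact hdvd)
    have hd := Nat.dvd_of_mul_dvd_mul_left (by norm_num : 0 < 110) h1
    have hm := SmallGroups.Sylow.card_sylow_mod (G := Cq) (p := 11)
    have key : ∀ n ∈ Nat.divisors 54, n % 11 = 1 → n = 1 := by decide +kernel
    exact key _ (Nat.mem_divisors.mpr ⟨hd, by norm_num⟩) hm
  have hn' := SmallGroups.Sylow.card_normalizer_mul P'
  rw [hnq, mul_one] at hn'
  have := Nat.le_of_dvd (by norm_num) hMd
  change Nat.card M = Nat.card Cq at hn'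
  rw [← hn'] at hbig
  omega

end Cfsg.Agent.Lib.RecogThree.M12.Graph.Five
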