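import Cfsg.Agent.Lib.RecogThree.M12.Graph.M11Facts
import Cfsg.Agent.Lib.RecogThree.M11.Unique
import Cfsg.Agent.Lib.Brauer.DegreeRatio
import Cfsg.Agent.Lib.Chars82.PGroupChars
import Cfsg.Agent.Lib.Cores.Basic
import Cfsg.Agent.Lib.LAEven57.FrobQuot.Small

/-!
A group of order `95040` with a normal subgroup `M₁₁` and an irreducible character of degree
divisible by `33` is `A₄ × M₁₁`.
-/

set_option autoImplicit false
set_option linter.style.haveILetI false
set_option linter.unusedSectionVars false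

namespace Cfsg.Agent.Lib.RecogThree.M12.Graph.Four

open Cfsg.Agent.Lib Cfsg.Agent.Lib.RecogThree.M11
open Cfsg.Agent.Lib.Classif.PrimeExceptional (deg apply_one_eq)
open Finset

universe u

variable {G : Type u} [Group G] [Finite G]

/-- No irreducible degree of `A × M₁₁`, `A` abelian, is divisible by `33`. -/
theorem no_33 {H : Type u} [Group H] [Fintype H] (D : Subgroup H) [IsSimpleGroup D]
    (hD : Nat.card D = 7920) (A : Subgroup H) (hA : A ≤ Subgroup.center H)
    (hbij : Function.Bijective fun p : A × D => (p.1 : H) * p.2) (φ : Cfsg.IrrCharacter H) {d : ℕ}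
    (hd : (φ : H → ℂ) 1 = d) : ¬ 33 ∣ d := by
  classical
  intro h33
  letI := Fintype.ofFinite A
  letI := Fintype.ofFinite D
  letI := Fintype.ofFinite (Cfsg.IrrCharacter D)
  set ψ : D → ℂ := fun v => (φ : H → ℂ) v with hψ
  have hψc : Cfsg.IsCharacter D ψ :=
    Characters.Basic.isCharacter_comp D.subtype (Characters.Basic.isCharacter_irr φ)
  have hscal : ∀ (a : A) (v : D), (φ : H → ℂ) ((a : H) * v) *
      (starRingEnd ℂ) ((φ : H → ℂ) ((a : H) * v)) = ψ v * (starRingEnd ℂ) (ψ v) := by
    intro a v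
    have hn : ‖(φ : H → ℂ) a / (φ : H → ℂ) 1‖ = 1 :=
      Chars82.PGroupChars.norm_omegaZ φ ⟨a, hA a.2⟩
    rw [Chars82.PGroupChars.mul_center φ (hA a.2), map_mul, mul_mul_mul_comm,
      Complex.mul_conj' ((φ : H → ℂ) a / (φ : H → ℂ) 1), hn]
    simp [hψ]
  have hnorm : Cfsg.classInner ψ ψ = 1 := by
    have h1 := Characters.Basic.classInner_self_irr φ
    rw [Cfsg.classInner, ← (Equiv.ofBijective _ hbij).sum_comp] at h1
    simp only [Equiv.ofBijective_apply] at h1
    rw [Fintype.sum_prod_type, ← Nat.card_congr (Equiv.ofBijective _ hbij), Nat.card_prod] at h1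
    simp only [hscal, Finset.sum_const, Finset.card_univ, nsmul_eq_mul, ← Nat.card_eq_fintype_card,
      Nat.cast_mul, mul_inv] at h1
    rw [Cfsg.classInner]
    have hA0 : (Nat.card A : ℂ) ≠ 0 := by exact_mod_cast Nat.card_pos.ne'
    rw [← h1]
    field_simp
  let θ : Cfsg.IrrCharacter D := ⟨ψ, Characters.Basic.isIrrCharacter_of_classInner_self hψc hnorm⟩
  obtain ⟨M⟩ := Model.exists_model hD
  obtain ⟨T⟩ := Degrees.exists_table hD (M11Facts.orderOf_x M) (M11Facts.orderOf_y M)
    (M11Facts.conj_x M)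
  have hmem : deg θ ∈ ({1, 45, 10, 10, 10, 16, 16, 11, 44, 55} : Multiset ℤ) :=
    T.degs ▸ Multiset.mem_map_of_mem _ (mem_univ θ)
  have hθ : deg θ = (d : ℤ) := by
    have e1 : ((θ : D → ℂ) 1) = (d : ℂ) := by
      show (φ : H → ℂ) ((1 : D) : H) = _
      rw [OneMemClass.coe_one, hd]
    rw [apply_one_eq] at e1
    exact_mod_cast e1
  rw [hθ] at hmem
  obtain ⟨k, rfl⟩ := h33
  simp only [Multiset.insert_eq_cons, Multiset.mem_cons, Multiset.mem_singleton] at hmem
  omega

theorem equiv_product (h : Nat.card G = 95040) (D : Subgroup G) [D.Normal] [IsSimpleGroup D]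
    (hD : Nat.card D = 7920) (χ : Cfsg.IrrCharacter G)
    (hχ : ∃ d : ℕ, (χ : G → ℂ) 1 = d ∧ 33 ∣ d) :
    Nonempty (G ≃* alternatingGroup (Fin 4) × ↥Cfsg.Spor.M11) := by
  classical
  letI := Fintype.ofFinite G
  haveI : Fact (Nat.Prime 3) := ⟨Nat.prime_three⟩
  set C := Subgroup.centralizer (D : Set G) with hC
  haveI : C.Normal := inferInstance
  have hcd : ∀ (c : C) (v : D), Commute (c : G) v := fun c v =>
    (Subgroup.mem_centralizer_iff.mp c.2 v v.2).symm
  set μ : C × D →* G := MonoidHom.noncommCoprod C.subtype D.subtype hcd with hμ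
  have hcen : Subgroup.center D = ⊥ := by
    refine ((inferInstance : (Subgroup.center D).Normal).eq_bot_or_eq_top).resolve_right ?_
    intro e
    refine Local.not_isComm hD ⟨⟨fun a b => ?_⟩⟩
    exact Subgroup.mem_center_iff.mp (e ▸ Subgroup.mem_top b) a
  have hinj : Function.Injective μ := by
    rw [injective_iff_map_eq_one]
    rintro ⟨c, v⟩ hv
    change (c : G) * v = 1 at hv
    have hvc : v ∈ Subgroup.center D := by
      rw [Subgroup.mem_center_iff]
      intro w
      apply Subtype.ext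
      have hce : (v : G) = (c : G)⁻¹ := eq_inv_of_mul_eq_one_right hv
      show (w : G) * v = v * w
      rw [hce]
      exact ((hcd c w).inv_left).eq.symm
    rw [hcen, Subgroup.mem_bot] at hvc
    subst hvc
    rw [OneMemClass.coe_one, mul_one] at hv
    exact Prod.ext (Subtype.ext hv) rfl
  have hsurj : Function.Surjective μ := by
    intro g
    obtain ⟨d, hd⟩ := M11Facts.aut_inner hD (MulAut.conjNormal g)
    have hc : (d : G)⁻¹ * g ∈ C := by
      rw [hC, Subgroup.mem_centralizer_iff]
      intro v hv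
      have e := congrArg Subtype.val (hd ⟨v, hv⟩)
      rw [MulAut.conjNormal_apply] at e
      simp only [Subgroup.coe_mul, Subgroup.coe_inv] at e
      calc v * ((d : G)⁻¹ * g) = (d : G)⁻¹ * ((d : G) * v * (d : G)⁻¹) * g := by group
        _ = (d : G)⁻¹ * (g * v * g⁻¹) * g := by rw [e]
        _ = (d : G)⁻¹ * g * v := by group
    refine ⟨(⟨_, hc⟩, d), ?_⟩
    show ((d : G)⁻¹ * g) * d = g
    rw [(hcd ⟨_, hc⟩ d).eq, mul_inv_cancel_left]
  have hCc : Nat.card C = 12 := by
    have := Nat.card_congr (MulEquiv.ofBijective μ ⟨hinj, hsurj⟩).toEquiv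
    rw [Nat.card_prod, hD, h] at this
    omega
  have hP3 : ∀ P : Sylow 3 C, Nat.card (P : Subgroup C) = 3 := fun P => by
    rw [SmallGroups.Sylow.card_sylow_eq P (a := 1) (m := 4) (by rw [hCc]; norm_num) (by norm_num), pow_one]
  have hn : Nat.card (Sylow 3 C) ≠ 1 := by
    intro h1
    haveI : Subsingleton (Sylow 3 C) := (Nat.card_eq_one_iff_unique.mp h1).1
    let P : Sylow 3 C := default
    haveI : (P : Subgroup C).Characteristic := P.characteristic_of_subsingleton
    set A : Subgroup G := (P : Subgroup C).map C.subtype with hAdef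
    haveI : A.Normal := Cores.normal_map_subtype C (P : Subgroup C)
    have hAc : Nat.card A = 3 :=
      (Subgroup.card_map_of_injective C.subtype_injective).trans (hP3 P)
    have hAC : A ≤ C := Subgroup.map_subtype_le _
    set H := A ⊔ D with hH
    haveI : H.Normal := inferInstance
    set A' := A.subgroupOf H
    set D' := D.subgroupOf H
    let eD : D' ≃* D := Subgroup.subgroupOfEquivOfLe le_sup_right
    let eA : A' ≃* A := Subgroup.subgroupOfEquivOfLe le_sup_left
    haveI : Nontrivial D' := eD.toEquiv.nontrivial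
    haveI : IsSimpleGroup D' :=
      IsSimpleGroup.isSimpleGroup_of_surjective eD.symm.toMonoidHom eD.symm.surjective
    have hbij : Function.Bijective fun p : A' × D' => ((p.1 : H) * p.2) := by
      constructor
      · rintro ⟨a, v⟩ ⟨a', v'⟩ e
        have e' := congrArg (Subtype.val : H → G) e
        simp only [Subgroup.coe_mul] at e'
        have e1 : μ (⟨_, hAC a.2⟩, ⟨_, v.2⟩) = μ (⟨_, hAC a'.2⟩, ⟨_, v'.2⟩) := e'
        have e2 := hinj e1
        exact Prod.ext (Subtype.ext (Subtype.ext (congrArg (fun q => (q.1 : G)) e2)))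
          (Subtype.ext (Subtype.ext (congrArg (fun q => (q.2 : G)) e2)))
      · intro w
        obtain ⟨a, ha, v, hv, e⟩ := Subgroup.mem_sup_of_normal_right.mp w.2
        exact ⟨(⟨⟨a, le_sup_left (b := D) ha⟩, ha⟩, ⟨⟨v, le_sup_right (a := A) hv⟩, hv⟩),
          Subtype.ext e⟩
    have hA' : A' ≤ Subgroup.center H := by
      intro a ha
      rw [Subgroup.mem_center_iff]
      intro w
      obtain ⟨⟨b, v⟩, rfl⟩ := hbij.2 w
      apply Subtype.ext
      haveI : IsCyclic A := isCyclic_of_prime_card hAc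
      have hba : Commute ((b : H) : G) a := congrArg Subtype.val
        ((IsCyclic.commGroup (α := A)).mul_comm ⟨_, b.2⟩ ⟨_, ha⟩)
      have hva : Commute ((v : H) : G) a := (hcd ⟨_, hAC ha⟩ ⟨_, v.2⟩).symm
      exact (hba.mul_left hva).eq
    have hHc : Nat.card H = 3 * 7920 := by
      rw [← Nat.card_congr (Equiv.ofBijective _ hbij), Nat.card_prod, Nat.card_congr eA.toEquiv,
        Nat.card_congr eD.toEquiv, hAc, hD]
    have hidx : H.index = 4 := by
      have := Subgroup.card_mul_index H
      rw [hHc, h] at this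
      omega
    letI := Fintype.ofFinite H
    obtain ⟨φ, hφ⟩ := Clifford.Basic.exists_constituent_restrict H χ.2
    obtain ⟨e, c, d₀, hc, hd₀, hce, he⟩ := Brauer.DegreeRatio.ratio_dvd H χ.2 φ.2 hφ
    obtain ⟨d, hd, h33⟩ := hχ
    have hcd' : c = d := by exact_mod_cast hc.symm.trans hd
    rw [hidx] at he
    refine no_33 D' ((Nat.card_congr eD.toEquiv).trans hD) A' hA' hbij φ hd₀ ?_
    have h2 : 33 ∣ e * d₀ := hce ▸ hcd' ▸ h33
    have h3 : 33 ∣ 4 * d₀ := h2.trans (mul_dvd_mul_right he _)
    exact (by norm_num : Nat.Coprime 33 4).dvd_of_dvd_mul_left h3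
  have hn4 : Nat.card (Sylow 3 C) = 4 := by
    have hd := SmallGroups.Sylow.card_sylow_dvd (p := 3) (G := C) (a := 1) (m := 4) (by rw [hCc]; norm_num)
      (by norm_num)
    have hm := SmallGroups.Sylow.card_sylow_mod (G := C) (p := 3)
    have hle := Nat.le_of_dvd (by norm_num) hd
    generalize Nat.card (Sylow 3 C) = n at *
    interval_cases n <;> omega
  set f : C →* Equiv.Perm (Sylow 3 C) := MulAction.toPermHom C (Sylow 3 C)
  have hf : Function.Injective f := by
    rw [← MonoidHom.ker_eq_bot_iff]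
    obtain ⟨P⟩ := (inferInstance : Nonempty (Sylow 3 C))
    have hN : Subgroup.normalizer ((P : Subgroup C) : Set C) = (P : Subgroup C) := by
      refine (Subgroup.eq_of_le_of_card_ge Subgroup.le_normalizer ?_).symm
      have := SmallGroups.Sylow.card_normalizer_mul P
      rw [hn4, hCc] at this
      rw [hP3]
      omega
    have hle : f.ker ≤ (P : Subgroup C) := by
      intro k hk
      rw [← hN]
      exact Sylow.smul_eq_iff_mem_normalizer.mp
        (DFunLike.congr_fun (MonoidHom.mem_ker.mp hk) P)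
    rcases (Nat.dvd_prime Nat.prime_three).mp (hP3 P ▸ Subgroup.card_dvd_of_le hle) with e | e
    · exact Subgroup.eq_bot_of_card_eq _ e
    · exfalso
      have heq : f.ker = (P : Subgroup C) :=
        Subgroup.eq_of_le_of_card_ge hle (by rw [hP3, e])
      haveI : (P : Subgroup C).Normal := heq ▸ MonoidHom.normal_ker f
      haveI := Sylow.unique_of_normal P ‹_›
      exact hn Nat.card_unique
  obtain ⟨ε⟩ := LAEven57.FrobQuot.alt_equiv f hf hn4 (by rw [hCc]; rfl)
  obtain ⟨δ⟩ := M11.Unique.equiv_M11 hD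
  exact ⟨(MulEquiv.ofBijective μ ⟨hinj, hsurj⟩).symm.trans (MulEquiv.prodCongr ε δ)⟩

end Cfsg.Agent.Lib.RecogThree.M12.Graph.Four
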