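import Cfsg.Agent.Lib.RecogThree.M12.Graph.Small
import Cfsg.Agent.Lib.Classif.ClassSum

/-!
No simple group of order `15840` has a self-centralising Sylow `11`-subgroup with normaliser of
order `110`.
-/

set_option autoImplicit false
set_option linter.style.haveILetI false
set_option linter.unusedSectionVars false

namespace Cfsg.Agent.Lib.RecogThree.M12.Graph.Inverter

open Cfsg.Agent.Lib.Characters Cfsg.Agent.Lib.Characters.Basic
open Cfsg.Agent.Lib.Classif
open Cfsg.Agent.Lib.Classif.PrimeExceptional (deg apply_one_eq)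
open Finset

universe u

variable {G : Type u} [Group G] [Finite G]

/-- An involution of `N(P)` commuting with an element of order five. -/
theorem exists_uw [Fact (Nat.Prime 11)] (P : Sylow 11 G) (hP : Nat.card (P : Subgroup G) = 11)
    (hC : Subgroup.centralizer ((P : Subgroup G) : Set G) = P)
    (hN : Nat.card (Subgroup.normalizer ((P : Subgroup G) : Set G)) = 110) :
    ∃ u : G, orderOf u = 2 ∧ u ∈ Subgroup.normalizer ((P : Subgroup G) : Set G) ∧
      10 ∣ Nat.card (Subgroup.centralizer ({u} : Set G)) := by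
  haveI : Fact (Nat.Prime 5) := ⟨by norm_num⟩
  haveI : Fact (Nat.Prime 2) := ⟨Nat.prime_two⟩
  set N := Subgroup.normalizer ((P : Subgroup G) : Set G) with hNdef
  obtain ⟨R⟩ := (inferInstance : Nonempty (Sylow 5 N))
  have hR : Nat.card (R : Subgroup N) = 5 := by
    rw [SmallGroups.Sylow.card_sylow_eq R (a := 1) (m := 22) (by rw [hN]; norm_num) (by norm_num),
      pow_one]
  have h2 : 2 ∣ Nat.card (Subgroup.normalizer ((R : Subgroup N) : Set N)) := by
    have hn := SmallGroups.Sylow.card_normalizer_mul R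
    have hd := SmallGroups.Sylow.card_sylow_dvd (p := 5) (G := N) (a := 1) (m := 22)
      (by rw [hN]; norm_num) (by norm_num)
    have hm := SmallGroups.Sylow.card_sylow_mod (G := N) (p := 5)
    have key : ∀ n ∈ Nat.divisors 22, n % 5 = 1 → n = 1 ∨ n = 11 := by decide +kernel
    rcases key _ (Nat.mem_divisors.mpr ⟨hd, by norm_num⟩) hm with e | e <;> rw [e, hN] at hn <;> omega
  obtain ⟨⟨⟨u, huN⟩, huR⟩, hu2⟩ :=
    exists_prime_orderOf_dvd_card' (G := Subgroup.normalizer ((R : Subgroup N) : Set N)) 2 h2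
  rw [Subgroup.orderOf_mk, Subgroup.orderOf_mk] at hu2
  obtain ⟨⟨⟨w, hwN⟩, hwR⟩, hwo⟩ := exists_prime_orderOf_dvd_card' (G := (R : Subgroup N)) 5 (by rw [hR])
  rw [Subgroup.orderOf_mk, Subgroup.orderOf_mk] at hwo
  have huu : u * u = 1 := by rw [← pow_two, ← hu2, pow_orderOf_eq_one]
  have huP : ∀ x ∈ (P : Subgroup G), u * x * u⁻¹ = x⁻¹ :=
    (FixedSylow.inverts_or_centralizes P hP huN huu).resolve_left fun h => by
      have := Subgroup.orderOf_dvd_natCard _ h
      rw [hu2, hC, hP] at this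
      norm_num at this
  have hcomm : Commute u w := by
    rcases FixedSylow.inverts_or_centralizes (u := (⟨u, huN⟩ : N)) R hR huR (Subtype.ext huu) with
      h | h
    · exact (congrArg Subtype.val (Subgroup.mem_centralizer_iff.mp h ⟨w, hwN⟩ hwR)).symm
    exfalso
    have hinv : u * w * u⁻¹ = w⁻¹ := congrArg Subtype.val (h ⟨w, hwN⟩ hwR)
    have hw2 : w * w ∈ Subgroup.centralizer ((P : Subgroup G) : Set G) := by
      rw [Subgroup.mem_centralizer_iff]
      intro x hx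
      have hy : w * x * w⁻¹ ∈ (P : Subgroup G) := (Subgroup.mem_normalizer_iff.mp hwN x).mp hx
      have h1 := huP _ hy
      have h2' : u * x * u⁻¹ = x⁻¹ := huP x hx
      have h3 : u * (w * x * w⁻¹) * u⁻¹ = w⁻¹ * x⁻¹ * w := by
        calc u * (w * x * w⁻¹) * u⁻¹ = (u * w * u⁻¹) * (u * x * u⁻¹) * (u * w * u⁻¹)⁻¹ := by group
          _ = w⁻¹ * x⁻¹ * w := by rw [hinv, h2', inv_inv]
      rw [h1] at h3
      have h4 : w * x * w⁻¹ = w⁻¹ * x * w := by
        have := congrArg (·⁻¹) h3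
        simpa [mul_inv_rev, mul_assoc] using this
      calc x * (w * w) = w * (w⁻¹ * x * w) * w := by group
        _ = w * (w * x * w⁻¹) * w := by rw [h4]
        _ = w * w * x := by group
    have := Subgroup.orderOf_dvd_natCard _ hw2
    rw [hC, hP, ← pow_two, Nat.Coprime.orderOf_pow (by rw [hwo]; norm_num), hwo] at this
    norm_num at this
  refine ⟨u, hu2, huN, ?_⟩
  have hu : u ∈ Subgroup.centralizer ({u} : Set G) := Subgroup.mem_centralizer_singleton_iff.mpr rfl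
  have hw : w ∈ Subgroup.centralizer ({u} : Set G) :=
    Subgroup.mem_centralizer_singleton_iff.mpr hcomm.symm.eq
  exact Nat.Coprime.mul_dvd_of_dvd_of_dvd (by norm_num : Nat.Coprime 2 5)
    (hu2 ▸ Subgroup.orderOf_dvd_natCard _ hu) (hwo ▸ Subgroup.orderOf_dvd_natCard _ hw)

/-- The five possible signed degrees. -/
def c15 : Fin 5 → ℤ := ![-10, 12, -32, 45, -120]

set_option maxHeartbeats 3000000 in
/-- No simple group of order `15840` with this normaliser. -/
theorem false_of_110 [IsSimpleGroup G] (hG : ¬ IsMulCommutative G) [Fact (Nat.Prime 11)]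
    (h : Nat.card G = 15840) (P : Sylow 11 G) (hP : Nat.card (P : Subgroup G) = 11)
    (hC : Subgroup.centralizer ((P : Subgroup G) : Set G) = P)
    (hN : Nat.card (Subgroup.normalizer ((P : Subgroup G) : Set G)) = 110)
    (D : FirstPowerData.Data P 10) : False := by
  classical
  haveI := Fintype.ofFinite G
  have hperf := SmallGroups.Sylow.commutator_eq_top hG
  obtain ⟨u, hu2, huN, h10⟩ := exists_uw P hP hC hN
  set C := Nat.card (Subgroup.centralizer ({u} : Set G)) with hCdef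
  have huu : u * u = 1 := by rw [← pow_two, ← hu2, pow_orderOf_eq_one]
  have hu11 : ¬ 11 ∣ orderOf u := by rw [hu2]; norm_num
  have hu1 : u ≠ 1 := fun e' => by rw [e', orderOf_one] at hu2; omega
  have hK : D.K.card = 9 := by have := D.card_K; omega
  have hfam : D.fam.card = 1 := by have := D.fam_card; omega
  -- signed degrees
  have hsq := D.square_sum
  rw [hfam, h] at hsq
  have hex : ∀ χ ∈ D.K, ∃ i : Fin 5, D.a χ * deg χ = c15 i := fun χ hχ => by
    obtain ⟨-, -, h3, h4⟩ := FirstPowerKills.signed_facts hperf hP D hχ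
    have hle : deg χ ^ 2 ≤ ∑ ψ ∈ D.K, deg ψ ^ 2 := single_le_sum (fun ψ _ => sq_nonneg (deg ψ)) hχ
    have hθ : (0 : ℤ) ≤ deg D.θ ^ 2 := sq_nonneg _
    rw [h] at h3
    rcases Small.signed_code hG D hperf hP (g := 15840) (by decide) h hχ with e' | e' | ⟨i, hi⟩
    · exact ⟨0, e'⟩
    · exact ⟨1, e'⟩
    rw [hi] at h3 h4
    fin_cases i <;> simp [Arith.code] at h3 h4 hi ⊢
    · exact ⟨3, hi⟩
    · exact ⟨2, hi⟩
    · exact ⟨4, hi⟩
    · push_cast at hsq; linarith
  choose! f hf using hex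
  set n : Fin 5 → ℕ := fun i => (D.K.filter fun χ => f χ = i).card with hn
  have hsum : ∀ φ : Fin 5 → ℤ, ∑ χ ∈ D.K, φ (f χ) = ∑ i, (n i : ℤ) * φ i := fun φ => by
    rw [← sum_fiberwise D.K f (fun χ => φ (f χ))]
    refine sum_congr rfl fun i _ => ?_
    rw [sum_congr rfl (g := fun _ => φ i) fun χ hχ => by rw [(mem_filter.mp hχ).2],
      sum_const, nsmul_eq_mul]
  have htot : n 0 + n 1 + n 2 + n 3 + n 4 = 9 := by
    have := hsum fun _ => 1
    rw [Fin.sum_univ_five] at this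
    simp only [sum_const, nsmul_eq_mul, mul_one, hK] at this
    push_cast at this
    omega
  set T := Arith.T9 (n 0) (n 1) (n 2) (n 3) (n 4) with hT
  have hTeq : T = D.δ * deg D.θ := by
    rw [← D.degree_eq, sum_congr rfl hf, hsum c15, Fin.sum_univ_five, hT, Arith.T9]
    simp [c15]
    ring
  have hθ0 := (D.two_le hperf).2
  have hTabs : (T.natAbs : ℤ) = deg D.θ := by
    rw [hTeq]; rcases D.δ_unit with e' | e' <;> rw [e'] <;> omega
  have hTsign : T.sign = D.δ := by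
    rw [hTeq]; rcases D.δ_unit with e' | e' <;> rw [e']
    · rw [one_mul, Int.sign_eq_one_of_pos (by omega)]
    · rw [Int.sign_eq_neg_one_of_neg (by omega)]
  have hok : Arith.ok9 (n 0) (n 1) (n 2) (n 3) (n 4) = true := by
    simp only [Arith.ok9, ← hT, Bool.and_eq_true, decide_eq_true_eq]
    have hdvd : T.natAbs ∣ 15840 := by
      have hd : (deg D.θ).natAbs ∣ Nat.card G := by
        rw [PrimeExceptional.natAbs_deg]; exact H80.ClassMult.charDegree_dvd_card _
      rwa [← hTabs, Int.natAbs_natCast, h] at hd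
    refine ⟨⟨⟨by omega, Nat.mod_eq_zero_of_dvd hdvd⟩, ?_⟩, ?_⟩
    · have := D.θ_cong hP
      rw [← hTeq] at this
      exact Int.emod_eq_zero_of_dvd (by simpa using this)
    · rw [show ∑ χ ∈ D.K, deg χ ^ 2 = ∑ χ ∈ D.K, c15 (f χ) ^ 2 from sum_congr rfl fun χ hχ => by
        rw [← (FirstPowerKills.signed_facts hperf hP D hχ).2.2.2, hf χ hχ],
        hsum fun i => c15 i ^ 2, Fin.sum_univ_five] at hsq
      rw [show T ^ 2 = deg D.θ ^ 2 by rw [← hTabs, Int.natAbs_sq]]
      simp [c15] at hsq ⊢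
      linarith
  have hn4 : n 4 = 0 := by
    by_contra hne
    have := Arith.no_big ⟨n 0, by omega⟩ ⟨n 1, by omega⟩ ⟨n 2, by omega⟩ ⟨n 4, by omega⟩
      (by simp only; omega) (by simp only; omega)
    simp only at this
    rw [show 9 - n 0 - n 1 - n 2 - n 4 = n 3 by omega, hok] at this
    exact Bool.noConfusion this
  have hn3 : 9 - n 0 - n 1 - n 2 = n 3 := by omega
  have h10θ : 10 ≤ T.natAbs := by
    have := Arith.ten_le ⟨n 0, by omega⟩ ⟨n 1, by omega⟩ ⟨n 2, by omega⟩ (by simp only; omega)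
      (by simp only [hn3]; rw [← hn4]; exact hok)
    simp only [hn3] at this
    rwa [← hn4, ← hT] at this
  -- values at `u`
  have hval : ∀ χ ∈ D.K, ∃ x : ℤ, (χ : G → ℂ) u = x ∧ (4 : ℤ) ∣ deg χ - x ∧ |x| < deg χ :=
    fun χ hχ => by
    obtain ⟨x, hx, h4, hlt, -⟩ :=
      M12.Basic.involution hG χ (fun h1 => D.one_not_mem (h1 ▸ hχ)) hu2
    exact ⟨x, hx, h4, hlt⟩
  choose! v hv using hval
  obtain ⟨β, hβ, hβ4, -⟩ := FirstPowerData.exists_int_mod_four hperf D.θ huu
  have hrel : 1 + ∑ χ ∈ D.K, D.a χ * v χ = D.δ * β := by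
    have := D.rel u hu11
    rw [hβ, sum_congr rfl fun χ hχ => by rw [(hv χ hχ).1, ← Int.cast_mul]] at this
    exact_mod_cast this
  have hcen := D.centralizer_le hu11 v β (fun χ hχ => (hv χ hχ).1) hβ
  rw [hfam, ← hCdef] at hcen
  push_cast at hcen
  -- the class sum
  have hcs := ClassSum.class_sum P hP (by norm_num) hC D (by rw [hN]) huN hu2
  rw [h, hβ, ← hCdef] at hcs
  set Q : Fin 5 → ℤ := fun i => ∑ χ ∈ D.K.filter (fun χ => f χ = i), v χ ^ 2 with hQ
  set X : Fin 5 → ℤ := fun i => ∑ χ ∈ D.K.filter (fun χ => f χ = i), v χ with hX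
  have hfib : ∀ (R : Type) [AddCommMonoid R] (φ : Cfsg.IrrCharacter G → R),
      ∑ χ ∈ D.K, φ χ = ∑ i, ∑ χ ∈ D.K.filter (fun χ => f χ = i), φ χ := fun R _ φ =>
    (sum_fiberwise D.K f φ).symm
  have hQsum : ∑ χ ∈ D.K, v χ ^ 2 = Q 0 + Q 1 + Q 2 + Q 3 := by
    rw [hfib ℤ, Fin.sum_univ_five]
    have : D.K.filter (fun χ => f χ = 4) = ∅ := card_eq_zero.mp hn4
    simp only [hQ, this, sum_empty, add_zero]
  have hXsum : ∑ χ ∈ D.K, D.a χ * v χ = -X 0 + X 1 - X 2 + X 3 := by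
    rw [hfib ℤ, Fin.sum_univ_five]
    have : D.K.filter (fun χ => f χ = 4) = ∅ := card_eq_zero.mp hn4
    simp only [this, sum_empty, add_zero]
    have hs : ∀ (i : Fin 5) (s : ℤ), (s = 1 ∨ s = -1) → 0 < s * c15 i →
        ∑ χ ∈ D.K.filter (fun χ => f χ = i), D.a χ * v χ = s * X i := fun i s hs hpos => by
      rw [hX, mul_sum]
      refine sum_congr rfl fun χ hχ => ?_
      obtain ⟨hχK, hχf⟩ := mem_filter.mp hχ
      have h1 := hf χ hχK
      rw [hχf] at h1
      have h2 := (D.two_le hperf).1 χ hχK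
      congr 1
      rcases D.a_unit χ hχK with e' | e' <;> rw [e'] at h1 <;> rcases hs with rfl | rfl <;>
        first | exact e' | omega
    rw [hs 0 (-1) (Or.inr rfl) (by decide), hs 1 1 (Or.inl rfl) (by decide),
      hs 2 (-1) (Or.inr rfl) (by decide), hs 3 1 (Or.inl rfl) (by decide)]
    ring
  have hmain : (1440 - 144 * Q 0 + 120 * Q 1 - 45 * Q 2 + 32 * Q 3) * T - 1440 * (β * β) =
      (C : ℤ) ^ 2 * T := by
    have hT0 : (T : ℂ) ≠ 0 := Int.cast_ne_zero.mpr (by omega)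
    have hK' : ∑ χ ∈ D.K, (D.a χ : ℂ) * ((χ : G → ℂ) u * (χ : G → ℂ) u / (deg χ : ℂ)) =
        -(Q 0 : ℂ) / 10 + (Q 1 : ℂ) / 12 - (Q 2 : ℂ) / 32 + (Q 3 : ℂ) / 45 := by
      have hterm : ∀ χ ∈ D.K, (D.a χ : ℂ) * ((χ : G → ℂ) u * (χ : G → ℂ) u / (deg χ : ℂ)) =
          ((v χ ^ 2 : ℤ) : ℂ) / (c15 (f χ) : ℂ) := fun χ hχ => by
        rw [(hv χ hχ).1, ← hf χ hχ]
        have hd : (deg χ : ℂ) ≠ 0 := Int.cast_ne_zero.mpr (by
          have := (D.two_le hperf).1 χ hχ; omega)
        push_cast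
        rcases D.a_unit χ hχ with e' | e' <;> rw [e'] <;> push_cast <;> field_simp
      rw [sum_congr rfl hterm, hfib ℂ, Fin.sum_univ_five]
      have : D.K.filter (fun χ => f χ = 4) = ∅ := card_eq_zero.mp hn4
      simp only [this, sum_empty, add_zero]
      have hs : ∀ i : Fin 5, ∑ χ ∈ D.K.filter (fun χ => f χ = i),
          ((v χ ^ 2 : ℤ) : ℂ) / (c15 (f χ) : ℂ) = (Q i : ℂ) / (c15 i : ℂ) := fun i => by
        rw [hQ, Int.cast_sum, sum_div]
        exact sum_congr rfl fun χ hχ => by rw [(mem_filter.mp hχ).2]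
      rw [hs, hs, hs, hs]
      simp [c15]
      ring
    have hδθ : (D.δ : ℂ) * ((β : ℂ) * (β : ℂ) / (deg D.θ : ℂ)) = (β : ℂ) * β / (T : ℂ) := by
      rw [hTeq]
      have hd : (deg D.θ : ℂ) ≠ 0 := Int.cast_ne_zero.mpr (by omega)
      rcases D.δ_unit with e' | e' <;> rw [e'] <;> push_cast <;> field_simp
    rw [hK', hδθ] at hcs
    push_cast at hcs
    have : (((1440 - 144 * Q 0 + 120 * Q 1 - 45 * Q 2 + 32 * Q 3) * T - 1440 * (β * β) : ℤ) : ℂ) =
        (((C : ℤ) ^ 2 * T : ℤ) : ℂ) := by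
      push_cast
      field_simp at hcs
      linear_combination hcs / 1900800
    exact_mod_cast this
  -- bounds
  have hQnn : ∀ i, 0 ≤ Q i := fun i => sum_nonneg fun χ _ => sq_nonneg _
  rw [hQsum] at hcen
  have hQ0 := hQnn 0
  have hQ1 := hQnn 1
  have hQ2 := hQnn 2
  have hQ3 := hQnn 3
  have hβsq : (0 : ℤ) ≤ β * β := mul_self_nonneg β
  have hC152 : C ≤ 152 := by
    have h1 : (C : ℤ) ^ 2 ≤ 1440 + 144 * ((C : ℤ) - 1) := by
      have hT0 : (10 : ℤ) ≤ T.natAbs := by exact_mod_cast h10θ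
      rw [hTabs] at hT0
      have e1 : 1440 - 144 * Q 0 + 120 * Q 1 - 45 * Q 2 + 32 * Q 3 ≤
          1440 + 144 * ((C : ℤ) - 1 - β * β) := by linarith
      have hpos : (0 : ℤ) < deg D.θ := by omega
      have e2 := mul_le_mul_of_nonneg_right e1 hpos.le
      have e3 : 1440 * (β * β) ≤ 144 * deg D.θ * (β * β) :=
        mul_le_mul_of_nonneg_right (by linarith) hβsq
      have e4 : 0 ≤ 144 * deg D.θ * (β * β) :=
        mul_nonneg (by linarith) hβsq
      refine le_of_mul_le_mul_right ?_ hpos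
      rcases D.δ_unit with e' | e' <;> rw [e'] at hTeq <;> rw [hTeq] at hmain
      · linarith
      · linarith
    have : (C : ℤ) ≤ 152 := by nlinarith
    exact_mod_cast this
  obtain ⟨m, hm⟩ := h10
  have hmd : m ∣ 1584 := by
    have := Subgroup.card_subgroup_dvd_card (Subgroup.centralizer ({u} : Set G))
    rw [← hCdef, hm, h] at this
    exact Nat.dvd_of_mul_dvd_mul_left (by norm_num : 0 < 10) this
  have hmem : m ∈ ([1, 2, 3, 4, 6, 8, 9, 11, 12] : List ℕ) := by
    have key : ∀ m ∈ Nat.divisors 1584, m ≤ 15 → m ∈ ([1, 2, 3, 4, 6, 8, 9, 11, 12] : List ℕ) := by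
      decide +kernel
    exact key m (Nat.mem_divisors.mpr ⟨hmd, by norm_num⟩) (by omega)
  have hCm : (C : ℤ) = 10 * (m : ℤ) := by exact_mod_cast hm
  have hm12 : m ≤ 12 := by
    simp only [List.mem_cons, List.not_mem_nil, or_false] at hmem; omega
  -- the values of one member
  have hone : ∀ χ ∈ D.K, f χ ≠ 4 → v χ ^ 2 < 120 := fun χ hχ _ => by
    have : v χ ^ 2 ≤ ∑ ψ ∈ D.K, v ψ ^ 2 := single_le_sum (fun ψ _ => sq_nonneg (v ψ)) hχ
    rw [hQsum] at this
    have : (C : ℤ) ≤ 120 := by omega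
    linarith
  have hopts : ∀ i : Fin 4, ∀ χ ∈ D.K, f χ = i.castSucc → v χ ∈ Arith.opts i ∧
      (i = 0 → (32 : ℤ) ∣ v χ ^ 2 - 4) ∧ ((i = 1 ∨ i = 2) → (16 : ℤ) ∣ v χ ^ 2) ∧
      (i = 3 → (8 : ℤ) ∣ v χ ^ 2 - 1) := fun i χ hχ hfi => by
    obtain ⟨-, ⟨j, hj⟩, hlt⟩ := hv χ hχ
    have hd := hf χ hχ
    have h2 := (D.two_le hperf).1 χ hχ
    have hb : -10 ≤ v χ ∧ v χ ≤ 10 := by
      have := hone χ hχ (by rw [hfi]; exact (Fin.castSucc_lt_last i).ne)
      constructor <;> nlinarith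
    obtain ⟨hl1, hl2⟩ := abs_lt.mp hlt
    have hdd : deg χ = (c15 i.castSucc).natAbs := by
      rw [hfi] at hd
      rw [← hd]
      rcases D.a_unit χ hχ with e' | e' <;> rw [e'] <;> omega
    obtain ⟨hb1, hb2⟩ := hb
    fin_cases i <;> simp [c15] at hdd <;> rw [hdd] at hj hl1 hl2 <;>
      interval_cases (v χ) <;> first | omega | (simp [Arith.opts])
  have hsums : ∀ i : Fin 4, X i.castSucc ∈ Arith.sums (Arith.opts i) (n i.castSucc) (Q i.castSucc) :=
    fun i => by
    set l := (D.K.filter fun χ => f χ = i.castSucc).toList.map v with hl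
    have hmem' : ∀ x ∈ l, x ∈ Arith.opts i := fun x hx => by
      obtain ⟨χ, hχ, rfl⟩ := List.mem_map.mp hx
      rw [mem_toList, mem_filter] at hχ
      exact (hopts i χ hχ.1 hχ.2).1
    have := Arith.sum_mem_sums _ l hmem'
    rw [hl, List.length_map, length_toList, List.map_map, sum_map_toList, sum_map_toList] at this
    convert this using 2
    simp only [hQ, Function.comp_apply, pow_two]
  -- locate the point of the search
  have hdvd : ∀ (i : Fin 4) (d r : ℤ), (∀ χ ∈ D.K, f χ = i.castSucc → d ∣ v χ ^ 2 - r) →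
      ∃ k : ℕ, d ∣ Q i.castSucc - r * n i.castSucc ∧ (k : ℤ) = Q i.castSucc := fun i d r hd => by
    refine ⟨(Q i.castSucc).toNat, ?_, Int.toNat_of_nonneg (hQnn _)⟩
    rw [hQ, hn]
    simp only
    rw [show r * ((D.K.filter fun χ => f χ = i.castSucc).card : ℤ) =
      ∑ χ ∈ D.K.filter (fun χ => f χ = i.castSucc), r by rw [sum_const, nsmul_eq_mul, mul_comm],
      ← sum_sub_distrib]
    exact dvd_sum fun χ hχ => hd χ (mem_filter.mp hχ).1 (mem_filter.mp hχ).2
  obtain ⟨q₁, ⟨t₁, ht₁⟩, hq₁⟩ := hdvd 0 32 4 fun χ hχ hf' => (hopts 0 χ hχ hf').2.1 rfl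
  obtain ⟨q₂, ⟨t₂, ht₂⟩, hq₂⟩ := hdvd 1 16 0 fun χ hχ hf' => by
    simpa using (hopts 1 χ hχ hf').2.2.1 (Or.inl rfl)
  obtain ⟨q₃, ⟨t₃, ht₃⟩, hq₃⟩ := hdvd 2 16 0 fun χ hχ hf' => by
    simpa using (hopts 2 χ hχ hf').2.2.1 (Or.inr rfl)
  obtain ⟨q₄, ⟨t₄, ht₄⟩, hq₄⟩ := hdvd 3 8 1 fun χ hχ hf' => (hopts 3 χ hχ hf').2.2.2 rfl
  have hzero : ∀ i : Fin 4, n i.castSucc = 0 → Q i.castSucc = 0 := fun i h0 => by
    rw [hQ]; simp only; rw [card_eq_zero.mp h0, sum_empty]
  have hlow1 : 4 * (n 0 : ℤ) ≤ Q 0 := by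
    rw [hQ, hn]; simp only
    have := card_nsmul_le_sum (D.K.filter fun χ => f χ = 0) (fun χ => v χ ^ 2) 4 fun χ hχ => by
      obtain ⟨hK', hf'⟩ := mem_filter.mp hχ
      have h1 := (hopts 0 χ hK' hf').1
      simp only [Arith.opts, Matrix.cons_val_zero, List.mem_cons, List.not_mem_nil, or_false] at h1
      rcases h1 with e' | e' | e' | e' <;> rw [e'] <;> norm_num
    rw [nsmul_eq_mul] at this
    linarith
  have hlow4 : (n 3 : ℤ) ≤ Q 3 := by
    rw [hQ, hn]; simp only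
    have := card_nsmul_le_sum (D.K.filter fun χ => f χ = 3) (fun χ => v χ ^ 2) 1 fun χ hχ => by
      obtain ⟨hK', hf'⟩ := mem_filter.mp hχ
      have h1 := (hopts 3 χ hK' hf').2.2.2 rfl
      have : v χ ≠ 0 := fun e' => by rw [e'] at h1; norm_num at h1
      exact lt_of_le_of_ne (sq_nonneg _) (Ne.symm (pow_ne_zero 2 this))
    rw [nsmul_eq_mul] at this
    linarith
  have hz1 := hzero 0
  have hz2 := hzero 1
  have hz3 := hzero 2
  have hz4 := hzero 3
  have hs0 := hsums 0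
  have hs1 := hsums 1
  have hs2 := hsums 2
  have hs3 := hsums 3
  simp only [show (0 : Fin 4).castSucc = (0 : Fin 5) from rfl,
    show (1 : Fin 4).castSucc = (1 : Fin 5) from rfl, show (2 : Fin 4).castSucc = (2 : Fin 5) from rfl,
    show (3 : Fin 4).castSucc = (3 : Fin 5) from rfl] at ht₁ hq₁ ht₂ hq₂ ht₃ hq₃ ht₄ hq₄ hz1 hz2 hz3 hz4 hs0 hs1 hs2 hs3
  rw [hXsum] at hrel
  have hbb : -10 ≤ β ∧ β ≤ 10 := by constructor <;> nlinarith
  have hQle : Q 0 + Q 1 + Q 2 + Q 3 + β * β + 1 ≤ 10 * (m : ℤ) := by linarith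
  have hsearch := Arith.search_true
  simp only [Arith.search, List.all_eq_true, List.mem_range, Bool.or_eq_true, Bool.not_eq_true',
    Bool.and_eq_false_iff, decide_eq_false_iff_not] at hsearch
  have hb := (hsearch m hmem (n 0) (by omega) (n 1) (by omega) (n 2) (by omega)).resolve_left
    (by rw [hn3, ← hn4, hok]; decide)
  rcases hb (β + 10).toNat (by omega) with h' | h'
  · rw [Int.toNat_of_nonneg (by omega), add_sub_cancel_right] at h'
    rcases h' with h' | h'
    · exact h' (by linarith)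
    · apply h'
      rw [hn3, ← hn4, ← hT, hTabs]
      exact Int.emod_eq_zero_of_dvd hβ4
  have h1 := h' t₁.toNat (by
    split_ifs with h0
    · have := hz1 h0; omega
    · have : (Q 0 - 4 * n 0) ≤ 10 * (m : ℤ) - 4 * n 0 := by omega
      omega) t₂.toNat (by
    split_ifs with h0
    · have := hz2 h0; omega
    · omega) t₃.toNat (by
    split_ifs with h0
    · have := hz3 h0; omega
    · omega) t₄.toNat (by
    split_ifs with h0
    · have := hz4 (by omega); omega
    · omega)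
  rw [Int.toNat_of_nonneg (by omega), add_sub_cancel_right, hn3,
    show 4 * n 0 + 32 * t₁.toNat = q₁ by omega, show 16 * t₂.toNat = q₂ by omega,
    show 16 * t₃.toNat = q₃ by omega, show n 3 + 8 * t₄.toNat = q₄ by omega] at h1
  apply Bool.eq_false_iff.mp h1
  simp only [Arith.bad, hn3, Bool.and_eq_true, decide_eq_true_eq, List.any_eq_true]
  rw [← hn4, ← hT, hq₁, hq₂, hq₃, hq₄]
  refine ⟨⟨by linarith, ?_⟩, X 0, hs0, X 1, hs1, X 2, hs2, X 3, hs3, ?_⟩
  · rcases D.δ_unit with e' | e' <;> rw [hTsign, e'] <;> rw [e'] at hTeq <;> rw [hTabs] <;>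
      rw [hTeq, hCm] at hmain <;> linear_combination (norm := ring_nf) (D.δ : ℤ) * hmain
    all_goals rw [e']
    all_goals ring_nf
  · rw [hTsign, ← hrel]; ring

end Cfsg.Agent.Lib.RecogThree.M12.Graph.Inverter
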