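import Cfsg.Agent.Lib.RecogThree.M12.Graph.Five
import Cfsg.Agent.Lib.RecogThree.M12.Graph.Inverter

/-!
No simple group has order `3960`, `5940`, `11880`, `15840`, `23760`, `31680` or `47520`.
-/

set_option autoImplicit false
set_option linter.style.haveILetI false
set_option linter.unusedSectionVars false

namespace Cfsg.Agent.Lib.RecogThree.M12.Graph.Kills

open Cfsg.Agent.Lib.Characters Cfsg.Agent.Lib.Characters.Basic
open Cfsg.Agent.Lib.Classif Cfsg.Agent.Lib.Classif.SmallOrderKills3
open Cfsg.Agent.Lib.Classif.PrimeExceptional (deg apply_one_eq)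
open Finset

universe u

/-- The admissible pairs `(n₁₁, e)` and how each is contradictory. -/
theorem cases_list : Arith.orders.all (fun g => (Order175560.pairs g 11).all fun ne =>
    Order175560.deadCase g 11 ne.1 ne.2 ||
      (decide (ne.2 = 2) && (decide (g / (ne.1 * ne.2) % 2 = 0) || decide (g / (ne.1 * ne.2) % 3 = 0) ||
        decide (g = 15840 ∧ g / (ne.1 * ne.2) = 55) || decide (g = 11880 ∧ g / (ne.1 * ne.2) = 11))) ||
      (decide (ne.2 = 5) && decide (ne.1 = 144) && [15840, 23760, 31680, 47520].contains g &&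
        [22, 33, 44, 66].contains (g / (ne.1 * ne.2)) &&
        (decide (g ≠ 47520) || decide (g / (ne.1 * ne.2) = 66))) ||
      (decide (ne.2 = 10) && [31680, 47520].contains g &&
        [22, 33, 44, 66].contains (g / (ne.1 * ne.2))) ||
      decide (g = 15840 ∧ ne.2 = 10 ∧ g / (ne.1 * ne.2) = 11)) = true := by
  decide +kernel

/-- The admissible pairs at the prime `5` for order `15840`. -/
theorem five_list : ((Order175560.pairs 15840 5).all fun ne =>
    Order175560.deadCase 15840 5 ne.1 ne.2 || decide (15840 / (ne.1 * ne.2) % 11 ≠ 0)) = true := by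
  decide +kernel

variable {G : Type u} [Group G] [Finite G] [IsSimpleGroup G]

/-- No simple group of the orders considered. -/
theorem card_not_mem : Nat.card G ∉ Arith.orders := by
  classical
  intro hg
  haveI := Fintype.ofFinite G
  haveI : Fact (Nat.Prime 11) := ⟨by norm_num⟩
  haveI : Fact (Nat.Prime 5) := ⟨by norm_num⟩
  haveI : Fact (Nat.Prime 2) := ⟨Nat.prime_two⟩
  haveI : Fact (Nat.Prime 3) := ⟨Nat.prime_three⟩
  obtain ⟨g, h⟩ : ∃ g, Nat.card G = g := ⟨_, rfl⟩
  rw [h] at hg
  have hfacts : ∀ g ∈ Arith.orders, ¬ g.Prime ∧ 11 ∣ g ∧ g / 11 % 11 ≠ 0 ∧ g / 11 ≠ 1 ∧ g % 8 < 8 := by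
    intro g hg
    simp only [Arith.orders, List.mem_cons, List.not_mem_nil, or_false] at hg
    rcases hg with rfl | rfl | rfl | rfl | rfl | rfl | rfl <;> norm_num
  obtain ⟨hnp, h11, hm, hm1, -⟩ := hfacts g hg
  have hG := not_comm h hnp
  let P : Sylow 11 G := default
  obtain ⟨n, e, c, hmem, hP, hn, hn1, hc, hpc, hC, hN, hrel⟩ :=
    Order175560.exists_pair hG h h11 hm hm1 P
  have hcase := List.all_eq_true.mp (List.all_eq_true.mp cases_list g hg) (n, e) hmem
  simp only [← hc, Bool.or_eq_true, Bool.and_eq_true, decide_eq_true_eq, List.contains_iff_mem,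
    List.mem_cons, List.not_mem_nil, or_false] at hcase
  obtain ⟨D⟩ := FirstPowerData.exists_data P hP hrel
  rcases hcase with (((hd | ⟨he, htwo⟩) | ⟨⟨⟨⟨he, hn144⟩, hg5⟩, hc5⟩, h47⟩) | ⟨⟨he, hg10⟩, hc5⟩) | ⟨hg15, he, hc11⟩
  · exact Order175560.deadCase_false hG h (by norm_num) P hP hn hn1 hc hC hN hrel hd
  · -- two classes
    obtain ⟨χ, hχ⟩ := card_pos.mp (show 0 < D.K.card by have := D.card_K; omega)
    have h10 := Small.two_eq hG D hP he hg h χ hχ
    rcases htwo with ((h2 | h3) | ⟨hg', hc55⟩) | ⟨hg', hc11⟩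
    · obtain ⟨⟨q, hq⟩, hqo⟩ := exists_prime_orderOf_dvd_card'
        (G := Subgroup.centralizer ((P : Subgroup G) : Set G)) 2 (hC ▸ Nat.dvd_of_mod_eq_zero h2)
      rw [Subgroup.orderOf_mk] at hqo
      exact (Small.not_small hG hP D hχ hq (Or.inl hqo)).1 h10
    · obtain ⟨⟨q, hq⟩, hqo⟩ := exists_prime_orderOf_dvd_card'
        (G := Subgroup.centralizer ((P : Subgroup G) : Set G)) 3 (hC ▸ Nat.dvd_of_mod_eq_zero h3)
      rw [Subgroup.orderOf_mk] at hqo
      exact (Small.not_small hG hP D hχ hq (Or.inr hqo)).1 h10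
    · subst hg'
      obtain ⟨⟨y, hy⟩, hyo⟩ := exists_prime_orderOf_dvd_card'
        (G := Subgroup.centralizer ((P : Subgroup G) : Set G)) 5 (hC ▸ by rw [hc55]; norm_num)
      rw [Subgroup.orderOf_mk] at hyo
      obtain ⟨R, hR⟩ := (IsPGroup.of_card (p := 5) (n := 1)
        (by rw [Nat.card_zpowers, hyo, pow_one] : Nat.card (Subgroup.zpowers y) = 5 ^ 1)).exists_le_sylow
      obtain ⟨n5, e5, c5, hmem5, hRc, hn5, hn51, hc5', -, hC5, hN5, hrel5⟩ :=
        Order175560.exists_pair hG h (by norm_num) (by norm_num) (by norm_num) R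
      have hReq := Subgroup.eq_of_le_of_card_ge hR (by rw [hRc, Nat.card_zpowers, hyo])
      have hPC5 : (P : Subgroup G) ≤ Subgroup.centralizer ((R : Subgroup G) : Set G) := by
        intro x hx
        rw [← hReq, Subgroup.mem_centralizer_iff]
        intro z hz
        obtain ⟨k, rfl⟩ := Subgroup.mem_zpowers_iff.mp hz
        have hxy : Commute x y := Subgroup.mem_centralizer_iff.mp hy x hx
        exact ((hxy.zpow_right k).eq).symm
      have h11c := Subgroup.card_dvd_of_le hPC5
      rw [hP, hC5, hc5'] at h11c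
      have := List.all_eq_true.mp five_list _ hmem5
      simp only [Bool.or_eq_true, decide_eq_true_eq] at this
      rcases this with hbad | hne
      · exact Order175560.deadCase_false hG h (by norm_num) R hRc hn5 hn51 hc5' hC5 hN5 hrel5 hbad
      · exact hne (Nat.mod_eq_zero_of_dvd h11c)
    · subst hg'
      subst he
      have hC' : Nat.card (Subgroup.centralizer ((P : Subgroup G) : Set G)) = 11 := hC.trans hc11
      have hN' : Nat.card (Subgroup.normalizer ((P : Subgroup G) : Set G)) = 11 * 2 := by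
        rw [hN, hc11]
      obtain ⟨u, hu2, d, y, h1, h2, h3, h4, h5, h6, -, hsum⟩ :=
        Order175560.exists_centralizer_value hG (by norm_num) P hP hC' hN' hrel
      rw [h] at h3 h5 h6 hsum
      have hd : d = -10 := by
        obtain ⟨i, hi⟩ := h1
        push_cast at hi h6
        have hb : -20 ≤ i ∧ i ≤ 20 := by constructor <;> nlinarith
        obtain ⟨j, hj⟩ : ∃ j : Fin 41, (j : ℤ) - 20 = i :=
          ⟨⟨(i + 20).toNat, by omega⟩, by simp; omega⟩
        have := Arith.two 11880 (by decide) j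
        simp only [hj, show 11 * i + 1 = d by omega] at this
        exact this h2 h3 h4 h5 (by push_cast; linarith)
      subst hd
      set C := Nat.card (Subgroup.centralizer ({u} : Set G)) with hCu
      push_cast at hsum
      have heq : 12 * (y + 10) ^ 2 = (C : ℤ) ^ 2 := by linarith
      have hnat : 12 * (y + 10).natAbs ^ 2 = C ^ 2 := by
        have h' := congrArg Int.natAbs heq
        rw [Int.natAbs_mul, Int.natAbs_pow, Int.natAbs_pow] at h'
        simpa using h'
      have hC0 : C ≠ 0 := Nat.card_pos.ne'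
      have hy0 : (y + 10).natAbs ≠ 0 := fun e' => by
        rw [e'] at hnat; exact hC0 (by simpa using hnat.symm)
      have h3' := congrArg (fun m : ℕ => m.factorization 3) hnat
      simp only [Nat.factorization_mul (by norm_num : (12 : ℕ) ≠ 0) (pow_ne_zero 2 hy0),
        Nat.factorization_pow, Finsupp.add_apply, Finsupp.smul_apply, smul_eq_mul] at h3'
      rw [show (12 : ℕ).factorization 3 = 1 by
        rw [show (12 : ℕ) = 3 ^ 1 * 4 by norm_num, Nat.factorization_mul (by norm_num) (by norm_num),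
          Finsupp.add_apply, Nat.Prime.factorization_pow Nat.prime_three, Finsupp.single_eq_same,
          Nat.factorization_eq_zero_of_not_dvd (by norm_num)]] at h3'
      omega
  · -- five
    have hk : c / 11 = 2 ∨ c / 11 = 3 ∨ c / 11 = 4 ∨ c / 11 = 6 := by omega
    obtain ⟨q, w, hq, hqo, hwo, hwN, hcomm⟩ := Five.exists_qw hk
      (hC.trans (by omega)) (by rw [hN, he]; exact dvd_mul_left 5 c)
    refine Five.five_false hG h hP D (by simpa using hg5) he (hn144 ▸ hn) (fun e' => ?_) hq
      (by rcases hqo with ⟨-, h'⟩ | ⟨-, h'⟩ <;> omega) (fun e' => ?_) hwo hwN hcomm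
    · rcases h47 with h' | h'
      · exact absurd e' h'
      · exact hC.trans h'
    · rcases h47 with h' | h'
      · exact absurd e' h'
      · rcases hqo with ⟨h3, -⟩ | ⟨-, h''⟩
        · omega
        · exact h''
  · -- ten
    have hk : c / 11 = 2 ∨ c / 11 = 3 ∨ c / 11 = 4 ∨ c / 11 = 6 := by omega
    obtain ⟨q, w, hq, hqo, hwo, hwN, hcomm⟩ := Five.exists_qw hk
      (hC.trans (by omega)) (by rw [hN, he]; exact dvd_mul_of_dvd_right (by norm_num) c)
    exact Five.ten_false hG h hP D (by simpa using hg10) he hq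
      (by rcases hqo with ⟨-, h'⟩ | ⟨-, h'⟩ <;> omega) hwo hcomm
  · subst hg15
    subst he
    have hC' : Nat.card (Subgroup.centralizer ((P : Subgroup G) : Set G)) = 11 := hC.trans hc11
    exact Inverter.false_of_110 hG h P hP (SmallOrderKills4.centralizer_eq P hP hC')
      (by rw [hN, hc11]) D

end Cfsg.Agent.Lib.RecogThree.M12.Graph.Kills
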