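import Cfsg.Agent.Lib.RecogThree.M11.Order7920
import Cfsg.Agent.Lib.Cores.Basic

/-!
Groups of order `95040` without normal abelian subgroups of order divisible by `5` or `11`: elements
of order `11` centralise the Fitting subgroup and lie in no soluble normal subgroup.
-/

set_option autoImplicit false
set_option linter.style.haveILetI false
set_option linter.unusedSectionVars false

namespace Cfsg.Agent.Lib.RecogThree.M12.Graph.Layers

open Cfsg.Agent.Lib

universe u

theorem residues : ∀ q ∈ [2, 3, 5], ∀ a < 7, q ^ a ∣ 8640 → ∀ i ≤ a,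
    q ^ i % 11 = q ^ a % 11 → i = a := by
  decide +kernel

theorem centralizes_prime_power {G : Type u} [Group G] [Finite G] [Fact (Nat.Prime 11)]
    (h : Nat.card G = 95040) {q a : ℕ} (hq : q.Prime) (hq11 : q ≠ 11) {x : G}
    (hx : orderOf x = 11) (Q : Subgroup G) (hQ : Nat.card Q = q ^ a)
    (hxQ : x ∈ Subgroup.normalizer (Q : Set G)) : ∀ v ∈ Q, Commute v x := by
  refine M11.Order7920.centralizes hx Q hxQ fun d hd hm => ?_
  rw [hQ] at hd hm ⊢
  obtain ⟨i, hi, rfl⟩ := (Nat.dvd_prime_pow hq).mp hd
  rcases Nat.eq_zero_or_pos a with rfl | ha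
  · rw [Nat.le_zero.mp hi]
  have hd' : q ^ a ∣ 11 * 8640 := by
    rw [show 11 * 8640 = Nat.card G by rw [h]]
    exact hQ ▸ Subgroup.card_subgroup_dvd_card Q
  have hd'' : q ^ a ∣ 8640 := by
    refine (Nat.Coprime.pow_left a ?_).dvd_of_dvd_mul_left hd'
    exact (Nat.coprime_primes hq (by norm_num)).mpr hq11
  have h1 : q ∣ 2 ^ 6 * 3 ^ 3 * 5 := ((dvd_pow_self q (by omega)).trans hd'').trans (by norm_num)
  have hmem : q ∈ [2, 3, 5] := by
    rcases hq.dvd_mul.mp h1 with h2 | h2
    · rcases hq.dvd_mul.mp h2 with h3 | h3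
      · simp [(Nat.prime_dvd_prime_iff_eq hq Nat.prime_two).mp (hq.dvd_of_dvd_pow h3)]
      · simp [(Nat.prime_dvd_prime_iff_eq hq Nat.prime_three).mp (hq.dvd_of_dvd_pow h3)]
    · simp [(Nat.prime_dvd_prime_iff_eq hq (by norm_num)).mp h2]
  have ha7 : a < 7 := by
    by_contra hh
    have := (Nat.pow_dvd_pow q (show 7 ≤ a by omega)).trans hd''
    simp only [List.mem_cons, List.not_mem_nil, or_false] at hmem
    rcases hmem with rfl | rfl | rfl <;> norm_num at this
  rw [residues q hmem a ha7 hd'' i hi hm]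

variable {G : Type u} [Group G] [Finite G] (h : Nat.card G = 95040)

include h

theorem exists_eleven [Fact (Nat.Prime 11)] : ∃ x : G, orderOf x = 11 :=
  exists_prime_orderOf_dvd_card' 11 (by rw [h]; norm_num)

/-- A normal subgroup of order prime to `11` is centralised by the elements of order `11`. -/
theorem centralizes_normal [Fact (Nat.Prime 11)] (D : Subgroup G) [D.Normal]
    (hD : ¬ 11 ∣ Nat.card D) {x : G} (hx : orderOf x = 11) : ∀ v ∈ D, Commute v x := by
  set C : Subgroup G := D ⊓ Subgroup.centralizer ({x} : Set G) with hC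
  have hfull : Nat.card D ∣ Nat.card C := by
    refine (Nat.factorization_le_iff_dvd Nat.card_pos.ne' Nat.card_pos.ne').mp fun q => ?_
    by_cases hq : q.Prime
    swap
    · simp [Nat.factorization_eq_zero_of_not_prime _ hq]
    haveI : Fact q.Prime := ⟨hq⟩
    letI : MulAction (Subgroup.zpowers x) (Sylow q D) :=
      MulAction.compHom _ ((MulAut.conjNormal (H := D)).comp (Subgroup.zpowers x).subtype)
    have hX : IsPGroup 11 (Subgroup.zpowers x) :=
      IsPGroup.of_card (n := 1) (by rw [Nat.card_zpowers, hx, pow_one])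
    have hn : ¬ 11 ∣ Nat.card (Sylow q D) := fun hd =>
      hD (hd.trans ((Sylow.card_dvd_index (default : Sylow q D)).trans
        (Subgroup.index_dvd_card _)))
    obtain ⟨S, hS⟩ := hX.nonempty_fixed_point_of_prime_not_dvd_card (Sylow q D) hn
    set Q : Subgroup G := (S : Subgroup D).map D.subtype with hQ
    obtain ⟨a, ha⟩ := IsPGroup.iff_card.mp S.isPGroup'
    have hQc : Nat.card Q = q ^ a :=
      (Subgroup.card_map_of_injective D.subtype_injective).trans ha
    have hxQ : x ∈ Subgroup.normalizer (Q : Set G) := by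
      refine Subgroup.mem_normalizer_fintype fun v hv => ?_
      obtain ⟨w, hw, rfl⟩ := hv
      have hfix := hS ⟨x, Subgroup.mem_zpowers x⟩
      have hm : MulAut.conjNormal (H := D) x w ∈
          ((MulAut.conjNormal (H := D) x • S : Sylow q D) : Subgroup D) := ⟨w, hw, rfl⟩
      have hfix' : (MulAut.conjNormal (H := D) x • S : Sylow q D) = S := hfix
      rw [hfix'] at hm
      exact ⟨_, hm, MulAut.conjNormal_apply x w⟩
    have hle : Q ≤ C := by
      refine le_inf (Subgroup.map_subtype_le _) fun v hv => ?_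
      rw [Subgroup.mem_centralizer_singleton_iff]
      by_cases h11 : q = 11
      · subst h11
        have : Nat.card (S : Subgroup D) = 1 := by
          rcases Nat.eq_zero_or_pos a with rfl | ha'
          · simpa using ha
          · exact absurd (((dvd_pow_self 11 (by omega)).trans ha.symm.dvd).trans
              (Subgroup.card_subgroup_dvd_card _)) hD
        rw [hQ, Subgroup.eq_bot_of_card_eq _ this, Subgroup.map_bot, Subgroup.mem_bot] at hv
        simp [hv]
      · exact centralizes_prime_power h hq h11 hx Q hQc hxQ v hv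
    have hd : q ^ (Nat.card D).factorization q ∣ Nat.card C := by
      rw [← Sylow.card_eq_multiplicity S, ← Subgroup.card_map_of_injective D.subtype_injective]
      exact Subgroup.card_dvd_of_le hle
    exact (hq.pow_dvd_iff_le_factorization Nat.card_pos.ne').mp hd
  have hCD : C = D := Subgroup.eq_of_le_of_card_ge inf_le_left (Nat.le_of_dvd Nat.card_pos hfull)
  intro v hv
  rw [← hCD] at hv
  exact Subgroup.mem_centralizer_singleton_iff.mp hv.2

variable (hA : ∀ A : Subgroup G, A.Normal → (∀ a ∈ A, ∀ b ∈ A, a * b = b * a) →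
  ¬ 5 ∣ Nat.card A ∧ ¬ 11 ∣ Nat.card A)
include hA

theorem centralizes_fitting [Fact (Nat.Prime 11)] {x : G} (hx : orderOf x = 11) :
    ∀ v ∈ Cfsg.fittingSubgroup G, Commute v x := by
  intro v hv
  have hle : Cfsg.fittingSubgroup G ≤ Subgroup.centralizer ({x} : Set G) := by
    rw [Cores.fittingSubgroup_eq_iSup_pCore, iSup_le_iff]
    intro p
    haveI : Fact (p : ℕ).Prime := ⟨p.2⟩
    haveI hn : (Cfsg.pCore (p : ℕ) G).Normal := inferInstance
    obtain ⟨a, ha⟩ := IsPGroup.iff_card.mp (Cores.pCore_isPGroup (G := G) (p : ℕ))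
    intro w hw
    rw [Subgroup.mem_centralizer_singleton_iff]
    by_cases h11 : (p : ℕ) = 11
    · rw [h11] at hw hn ha
      rcases Nat.eq_zero_or_pos a with rfl | ha'
      · rw [pow_zero] at ha
        rw [Subgroup.eq_bot_of_card_eq _ ha, Subgroup.mem_bot] at hw
        simp [hw]
      · exfalso
        have hd := ha ▸ Subgroup.card_subgroup_dvd_card (Cfsg.pCore 11 G)
        rw [h] at hd
        have ha1 : a = 1 := by
          by_contra hh
          have := (Nat.pow_dvd_pow 11 (show 2 ≤ a by omega)).trans hd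
          norm_num at this
        rw [ha1, pow_one] at ha
        haveI := isCyclic_of_prime_card ha
        exact (hA _ hn fun b hb c hc => congrArg Subtype.val
          ((IsCyclic.commGroup (α := Cfsg.pCore 11 G)).mul_comm ⟨b, hb⟩ ⟨c, hc⟩)).2
          (dvd_of_eq ha.symm)
    · exact centralizes_prime_power h p.2 h11 hx (Cfsg.pCore (p : ℕ) G) ha
        (Subgroup.normalizer_eq_top_iff.mpr hn ▸ Subgroup.mem_top x) w hw
  exact Subgroup.mem_centralizer_singleton_iff.mp (hle hv)

/-- A soluble normal subgroup has order prime to `11`. -/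
theorem not_dvd_of_soluble (S : Subgroup G) [S.Normal] [Group.IsSolvable S] :
    ¬ 11 ∣ Nat.card S := by
  intro hd
  haveI : Fact (Nat.Prime 11) := ⟨by norm_num⟩
  obtain ⟨⟨x, hxS⟩, hx⟩ := exists_prime_orderOf_dvd_card' (G := S) 11 hd
  rw [Subgroup.orderOf_mk] at hx
  have hxF : (⟨x, hxS⟩ : S) ∈ Cfsg.fittingSubgroup S := by
    refine Cores.centralizer_fittingSubgroup_le ?_
    rw [Subgroup.mem_centralizer_iff]
    intro w hw
    have hw' : (w : G) ∈ (Cfsg.fittingSubgroup S).map S.subtype := ⟨w, hw, rfl⟩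
    rw [Cores.map_subtype_fittingSubgroup] at hw'
    exact Subtype.ext (centralizes_fitting h hA hx w hw'.2)
  have hx' : x ∈ (Cfsg.fittingSubgroup S).map S.subtype := ⟨_, hxF, rfl⟩
  rw [Cores.map_subtype_fittingSubgroup] at hx'
  set F := Cfsg.fittingSubgroup G
  haveI : F.Normal := inferInstance
  set A := F ⊓ Subgroup.centralizer (F : Set G) with hAdef
  have hcomm : ∀ a ∈ A, ∀ b ∈ A, a * b = b * a := fun a ha b hb =>
    Subgroup.mem_centralizer_iff.mp hb.2 a ha.1
  have hxA : x ∈ A :=
    ⟨hx'.2, Subgroup.mem_centralizer_iff.mpr fun w hw => centralizes_fitting h hA hx w hw⟩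
  exact (hA A inferInstance hcomm).2 (hx ▸ Subgroup.orderOf_dvd_natCard A hxA)

end Cfsg.Agent.Lib.RecogThree.M12.Graph.Layers
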