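import Cfsg.Agent.Lib.RecogThree.M11.Model

/-!
Local facts and the automorphisms of a simple group of order `7920`, read off the permutation model.
-/

set_option autoImplicit false
set_option linter.style.haveILetI false
set_option linter.unusedSectionVars false

namespace Cfsg.Agent.Lib.RecogThree.M12.Graph.M11Facts

open Cfsg.Agent.Lib.RecogThree.M11

universe u

/-- The three permutations. -/
def gens : Fin 3 → Fin 12 → Fin 12 := ![Cert.X, Cert.Y, Cert.U 2 4]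

/-- Evaluation of a word. -/
def ev (L : List (Fin 3)) : Fin 12 → Fin 12 := L.foldr (fun k f => gens k ∘ f) id

/-- The word `x ^ i * y ^ j * u`. -/
def wxyu (i j : ℕ) : List (Fin 3) := List.replicate i 0 ++ List.replicate j 1 ++ [2]

theorem twisted : ∀ s : Fin 2, ∀ j : Fin 5, (s = 0 ∧ j = 0) ∨ ∃ i : Fin 11, ∃ n : Fin 12,
    ¬ ((ev (wxyu i.1 0))^[n.1] = id ↔
      (ev (wxyu ((if s = 0 then 1 else 10) * i.1 % 11) j.1))^[n.1] = id) := by
  decide +kernel

theorem adjust : ∀ r : Fin 11, r ≠ 0 → ∃ j : Fin 5,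
    3 ^ j.1 * r.1 % 11 = 1 ∨ 3 ^ j.1 * r.1 % 11 = 10 := by decide +kernel

theorem exp_u : ∀ i : Fin 5, 2 * i.1 % 5 = 0 → i = 0 := by decide +kernel

/-- `a` of order `8`. -/
def wa : List (Fin 3) := [1, 2, 0, 0]
/-- An involution turning `a` into `a ^ 3`. -/
def wb : List (Fin 3) := [2, 0, 0, 2, 0, 2, 2, 0, 0]
/-- An involution. -/
def wn : List (Fin 3) := [2, 2]
/-- An element of order three centralised by `wn`. -/
def wc : List (Fin 3) := [2, 2, 1, 1, 0, 1, 2, 0, 0, 0]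
/-- An element of order three inverted by `wn`. -/
def wd : List (Fin 3) := [1, 0, 2, 2, 0]

theorem cert :
    ((ev [0])^[11] = id ∧ ev [0] ≠ id) ∧ ((ev [1])^[5] = id ∧ ev [1] ≠ id) ∧
    ev [1, 0] = ev [0, 0, 0, 1] ∧ ev [2, 1] = ev [1, 1, 2] ∧
    ((ev wa)^[8] = id ∧ (ev wa)^[4] ≠ id) ∧
    (ev (wb ++ wb) = id ∧ ev (wb ++ wa ++ wb) = ev (wa ++ wa ++ wa)) ∧
    ((ev wc)^[3] = id ∧ ev wc ≠ id) ∧ ((ev wd)^[3] = id ∧ ev wd ≠ id) ∧
    ev (wc ++ wd) = ev (wd ++ wc) ∧ ev (wn ++ wn) = id ∧ ev (wn ++ wc ++ wn) = ev wc ∧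
    ev (wn ++ wd ++ wn) = ev (wd ++ wd) := by
  decide +kernel

theorem exists_pow {X : Type u} [Group X] [Finite X] {x a : X} {n : ℕ} (hx : orderOf x = n)
    (ha : a ∈ Subgroup.zpowers x) : ∃ i < n, a = x ^ i := by
  obtain ⟨i, hi⟩ := mem_powers_iff_mem_zpowers.mpr ha
  exact ⟨i % n, Nat.mod_lt _ (hx ▸ orderOf_pos x), by rw [← hx, pow_mod_orderOf]; exact hi.symm⟩

variable {T : Type u} [Group T] [Finite T] [IsSimpleGroup T] (M : Model.Model T)

/-- The value of a word. -/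
def gw (L : List (Fin 3)) : T := (L.map ![M.x, M.y, M.u]).prod

theorem gw_append (L L' : List (Fin 3)) : gw M (L ++ L') = gw M L * gw M L' := by
  simp [gw]

theorem coe_gw (L : List (Fin 3)) : ⇑(M.φ (gw M L)) = ev L := by
  induction L with
  | nil => simp [gw, ev]
  | cons k L ih =>
    have e : gw M (k :: L) = ![M.x, M.y, M.u] k * gw M L := rfl
    rw [e, map_mul, Equiv.Perm.coe_mul, ih]
    have hk : ⇑(M.φ (![M.x, M.y, M.u] k)) = gens k := by
      fin_cases k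
      · exact M.hx
      · exact M.hy
      · exact M.hu
    rw [hk]
    rfl

theorem gw_ext {L L' : List (Fin 3)} (h : ev L = ev L') : gw M L = gw M L' :=
  M.inj (Equiv.coe_fn_injective (by simp only [coe_gw, h]))

theorem pow_eq_one_iff (L : List (Fin 3)) (n : ℕ) : gw M L ^ n = 1 ↔ (ev L)^[n] = id := by
  rw [← M.inj.eq_iff, map_one, map_pow, ← coe_gw M L, ← Equiv.Perm.coe_pow]
  exact Equiv.coe_fn_injective.eq_iff.symm.trans (by rw [Equiv.Perm.coe_one])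

theorem eq_one_iff (L : List (Fin 3)) : gw M L = 1 ↔ ev L = id := by
  simpa using pow_eq_one_iff M L 1

theorem orderOf_x : orderOf M.x = 11 := by
  haveI : Fact (Nat.Prime 11) := ⟨by norm_num⟩
  obtain ⟨⟨h1, h2⟩, -⟩ := cert
  have e : gw M [0] = M.x := by simp [gw]
  exact orderOf_eq_prime (e ▸ (pow_eq_one_iff M [0] 11).mpr h1)
    (e ▸ fun hh => h2 ((eq_one_iff M [0]).mp hh))

theorem orderOf_y : orderOf M.y = 5 := by
  haveI : Fact (Nat.Prime 5) := ⟨by norm_num⟩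
  obtain ⟨-, ⟨h1, h2⟩, -⟩ := cert
  have e : gw M [1] = M.y := by simp [gw]
  exact orderOf_eq_prime (e ▸ (pow_eq_one_iff M [1] 5).mpr h1)
    (e ▸ fun hh => h2 ((eq_one_iff M [1]).mp hh))

theorem conj_x : M.y * M.x * M.y⁻¹ = M.x ^ 3 := by
  obtain ⟨-, -, h, -⟩ := cert
  have := gw_ext M h
  simp only [gw, List.map_cons, List.map_nil, List.prod_cons, List.prod_nil, mul_one,
    Matrix.cons_val_zero, Matrix.cons_val_one] at this
  rw [this, pow_three]
  group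

theorem conj_y : M.u * M.y * M.u⁻¹ = M.y ^ 2 := by
  obtain ⟨-, -, -, h, -⟩ := cert
  have := gw_ext M h
  simp only [gw, List.map_cons, List.map_nil, List.prod_cons, List.prod_nil, mul_one,
    Matrix.cons_val_zero, Matrix.cons_val_one, Matrix.cons_val] at this
  rw [this, pow_two]
  group

theorem gw_wxyu (i j : ℕ) : gw M (wxyu i j) = M.x ^ i * M.y ^ j * M.u := by
  simp [gw, wxyu, List.map_replicate, mul_assoc]

variable (h : Nat.card T = 7920)
include h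

/-- Elements for a Sylow `2`-subgroup. -/
theorem exists_two : ∃ a b : T, orderOf a = 8 ∧ b * b = 1 ∧ b * a * b = a ^ 3 := by
  obtain ⟨M⟩ := Model.exists_model h
  obtain ⟨-, -, -, -, ⟨h8, h4⟩, ⟨hb, hab⟩, -⟩ := cert
  refine ⟨gw M wa, gw M wb, ?_, ?_, ?_⟩
  · exact orderOf_eq_prime_pow (p := 2) (n := 2)
      (fun hh => h4 ((pow_eq_one_iff M wa 4).mp hh)) ((pow_eq_one_iff M wa 8).mpr h8)
  · rw [← gw_append, eq_one_iff]; exact hb
  · rw [← gw_append, ← gw_append, gw_ext M hab, gw_append, gw_append, pow_three, mul_assoc]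

/-- Elements for a Sylow `3`-subgroup and an involution inducing determinant `-1`. -/
theorem exists_three : ∃ a b n : T, orderOf a = 3 ∧ orderOf b = 3 ∧ Commute a b ∧ n * n = 1 ∧
    n * a * n = a ∧ n * b * n = b⁻¹ := by
  obtain ⟨M⟩ := Model.exists_model h
  haveI : Fact (Nat.Prime 3) := ⟨Nat.prime_three⟩
  obtain ⟨-, -, -, -, -, -, ⟨hc3, hc1⟩, ⟨hd3, hd1⟩, hcd, hn, hnc, hnd⟩ := cert
  have hd3' : gw M wd ^ 3 = 1 := (pow_eq_one_iff M wd 3).mpr hd3
  refine ⟨gw M wc, gw M wd, gw M wn, ?_, ?_, ?_, ?_, ?_, ?_⟩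
  · exact orderOf_eq_prime ((pow_eq_one_iff M wc 3).mpr hc3)
      fun hh => hc1 ((eq_one_iff M wc).mp hh)
  · exact orderOf_eq_prime hd3' fun hh => hd1 ((eq_one_iff M wd).mp hh)
  · show gw M wc * gw M wd = gw M wd * gw M wc
    rw [← gw_append, ← gw_append, gw_ext M hcd]
  · rw [← gw_append, eq_one_iff]; exact hn
  · rw [← gw_append, ← gw_append, gw_ext M hnc]
  · rw [← gw_append, ← gw_append, gw_ext M hnd, gw_append]
    exact eq_inv_of_mul_eq_one_left (by rw [← hd3', pow_three, mul_assoc])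

/-- Every automorphism is inner. -/
theorem aut_inner (φ : T ≃* T) : ∃ d : T, ∀ g : T, φ g = d * g * d⁻¹ := by
  classical
  haveI : Fact (Nat.Prime 11) := ⟨by norm_num⟩
  haveI : Fact (Nat.Prime 5) := ⟨by norm_num⟩
  obtain ⟨M⟩ := Model.exists_model h
  have hx := orderOf_x M
  have hy := orderOf_y M
  obtain ⟨Tb⟩ := Degrees.exists_table h hx hy (conj_x M)
  have hcy : Subgroup.centralizer ({M.y} : Set T) = Subgroup.zpowers M.y :=
    (Subgroup.eq_of_le_of_card_ge (Subgroup.zpowers_le.mpr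
      (Subgroup.mem_centralizer_singleton_iff.mpr rfl))
      (by rw [Tb.cent_y, Nat.card_zpowers, hy])).symm
  have hcard : ∀ g : T, orderOf g = 11 → Nat.card (Subgroup.zpowers g) = 11 := fun g hg => by
    rw [Nat.card_zpowers, hg]
  have hfac : (Nat.card T).factorization 11 = 1 := by
    rw [h, show (7920 : ℕ) = 11 ^ 1 * 720 by norm_num, Nat.factorization_mul (by norm_num)
      (by norm_num), Finsupp.add_apply, Nat.Prime.factorization_pow (by norm_num),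
      Finsupp.single_eq_same, Nat.factorization_eq_zero_of_not_dvd (by norm_num)]
  let P : Sylow 11 T := Sylow.ofCard (Subgroup.zpowers M.x) (by rw [hcard _ hx, hfac, pow_one])
  have hφx : orderOf (φ M.x) = 11 := by rw [MulEquiv.orderOf_eq, hx]
  let Q : Sylow 11 T := Sylow.ofCard (Subgroup.zpowers (φ M.x))
    (by rw [hcard _ hφx, hfac, pow_one])
  have hcx : ∀ v : T, Commute v M.x → v ∈ Subgroup.zpowers M.x := by
    intro v hv
    have hP : (P : Subgroup T) = Subgroup.zpowers M.x := rfl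
    have := (Local.p11_data h P).1
    rw [hP] at this
    rw [← this, Subgroup.mem_centralizer_iff]
    intro b hb
    obtain ⟨k, rfl⟩ := Subgroup.mem_zpowers_iff.mp hb
    exact ((hv.zpow_right k).eq).symm
  obtain ⟨d₀, hd₀⟩ := MulAction.exists_smul_eq T Q P
  have hmem : d₀ * φ M.x * d₀⁻¹ ∈ Subgroup.zpowers M.x := by
    have h1 : d₀ * φ M.x * d₀⁻¹ ∈ ((d₀ • Q : Sylow 11 T) : Subgroup T) :=
      ⟨φ M.x, Subgroup.mem_zpowers _, rfl⟩
    rw [hd₀] at h1
    exact h1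
  obtain ⟨r, hr, hr'⟩ := exists_pow hx hmem
  have hr0 : (⟨r, hr⟩ : Fin 11) ≠ 0 := fun e => by
    have : r = 0 := congrArg Fin.val e
    rw [this, pow_zero, conj_eq_one_iff] at hr'
    rw [hr', orderOf_one] at hφx
    omega
  obtain ⟨j, hj⟩ := adjust ⟨r, hr⟩ hr0
  have hyj : ∀ k : ℕ, M.y ^ k * M.x * (M.y ^ k)⁻¹ = M.x ^ 3 ^ k := by
    intro k
    induction k with
    | zero => simp
    | succ k ih =>
      calc M.y ^ (k + 1) * M.x * (M.y ^ (k + 1))⁻¹
          = M.y * (M.y ^ k * M.x * (M.y ^ k)⁻¹) * M.y⁻¹ := by group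
        _ = (M.y * M.x * M.y⁻¹) ^ 3 ^ k := by rw [ih, conj_pow]
        _ = M.x ^ 3 ^ (k + 1) := by rw [conj_x, ← pow_mul, pow_succ']
  set s := 3 ^ j.1 * r % 11 with hs
  let ψ : T ≃* T := φ.trans (MulAut.conj (M.y ^ j.1 * d₀))
  have hψx : ψ M.x = M.x ^ s := by
    have e1 : ψ M.x = M.y ^ j.1 * (d₀ * φ M.x * d₀⁻¹) * (M.y ^ j.1)⁻¹ := by
      show M.y ^ j.1 * d₀ * φ M.x * (M.y ^ j.1 * d₀)⁻¹ = _
      group
    rw [e1, hr', ← conj_pow, hyj, ← pow_mul, hs, ← hx, pow_mod_orderOf]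
  have hs2 : s * s % 11 = 1 := by
    rcases hj with e | e <;> rw [show s = _ from e]
  have hψy : ψ M.y * M.x * (ψ M.y)⁻¹ = M.x ^ 3 := by
    have e1 : ψ M.y * M.x ^ s * (ψ M.y)⁻¹ = (M.x ^ s) ^ 3 := by
      rw [← hψx, ← map_inv, ← map_mul, ← map_mul, ← map_pow, conj_x]
    have e2 := congrArg (fun v => v ^ s) e1
    simp only [← conj_pow, ← pow_mul] at e2
    have ex : M.x ^ (s * s) = M.x := by
      conv_rhs => rw [← pow_one M.x, ← hs2]
      rw [← hx, pow_mod_orderOf]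
    rw [conj_pow, ex, mul_comm (s * 3) s, ← mul_assoc, pow_mul, ex] at e2
    exact e2
  obtain ⟨m, hm⟩ : ∃ m : ℕ, M.y⁻¹ * ψ M.y = M.x ^ m := by
    have hc : Commute (M.y⁻¹ * ψ M.y) M.x := by
      rw [commute_iff_eq, ← mul_inv_eq_iff_eq_mul]
      calc M.y⁻¹ * ψ M.y * M.x * (M.y⁻¹ * ψ M.y)⁻¹
          = M.y⁻¹ * (ψ M.y * M.x * (ψ M.y)⁻¹) * M.y := by group
        _ = M.y⁻¹ * (M.y * M.x * M.y⁻¹) * M.y := by rw [hψy, conj_x]
        _ = M.x := by group
    obtain ⟨m, -, hm⟩ := exists_pow hx (hcx _ hc)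
    exact ⟨m, hm⟩
  let χ : T ≃* T := ψ.trans (MulAut.conj (M.x ^ (7 * m)))
  have hχx : χ M.x = M.x ^ s := by
    show M.x ^ (7 * m) * ψ M.x * (M.x ^ (7 * m))⁻¹ = _
    rw [hψx, ← pow_add, add_comm, pow_add, mul_assoc, mul_inv_cancel, mul_one]
  have hyx' : ∀ k : ℕ, M.y * M.x ^ k = M.x ^ (3 * k) * M.y :=
    Local5.y_mul_pow (conj_x M)
  have hχy : χ M.y = M.y := by
    show M.x ^ (7 * m) * ψ M.y * (M.x ^ (7 * m))⁻¹ = _
    rw [show ψ M.y = M.y * M.x ^ m by rw [← hm]; group, hyx', mul_inv_eq_iff_eq_mul, hyx',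
      ← mul_assoc, ← pow_add]
    congr 1
    rw [← pow_mod_orderOf, hx, ← pow_mod_orderOf M.x (3 * (7 * m)), hx]
    congr 1
    omega
  obtain ⟨i, hi5, hi⟩ : ∃ i < 5, M.u⁻¹ * χ M.u = M.y ^ i := by
    have hc : M.u⁻¹ * χ M.u ∈ Subgroup.zpowers M.y := by
      rw [← hcy, Subgroup.mem_centralizer_singleton_iff, ← mul_inv_eq_iff_eq_mul]
      have e1 : χ M.u * M.y * (χ M.u)⁻¹ = M.y ^ 2 := by
        conv_lhs => rw [← hχy]
        rw [← map_inv, ← map_mul, ← map_mul, conj_y, map_pow, hχy]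
      calc M.u⁻¹ * χ M.u * M.y * (M.u⁻¹ * χ M.u)⁻¹
          = M.u⁻¹ * (χ M.u * M.y * (χ M.u)⁻¹) * M.u := by group
        _ = M.u⁻¹ * (M.u * M.y * M.u⁻¹) * M.u := by rw [e1, conj_y]
        _ = M.y := by group
    exact exists_pow hy hc
  have hχu : χ M.u = M.y ^ (2 * i % 5) * M.u := by
    rw [← hy, pow_mod_orderOf, show χ M.u = M.u * M.y ^ i by rw [← hi]; group, pow_mul,
      ← conj_y, conj_pow]
    group
  have hcase : s = 1 ∧ i = 0 := by
    obtain ⟨σ, hσ⟩ : ∃ σ : Fin 2, s = if σ = 0 then 1 else 10 := by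
      rcases hj with e | e
      · exact ⟨0, by simpa using e⟩
      · exact ⟨1, by simpa using e⟩
    rcases twisted σ ⟨2 * i % 5, Nat.mod_lt _ (by norm_num)⟩ with ⟨e1, e2⟩ | ⟨k, n, hne⟩
    · refine ⟨by rw [hσ, if_pos e1], ?_⟩
      exact congrArg Fin.val (exp_u ⟨i, hi5⟩ (congrArg Fin.val e2))
    · exfalso
      apply hne
      rw [← pow_eq_one_iff M, ← pow_eq_one_iff M, gw_wxyu, gw_wxyu, pow_zero, mul_one]
      have hg : χ (M.x ^ k.1 * M.u) =
          M.x ^ ((if σ = 0 then 1 else 10) * k.1 % 11) * M.y ^ (2 * i % 5) * M.u := by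
        rw [map_mul, map_pow, hχx, hχu, ← pow_mul, ← hσ, ← mul_assoc]
        congr 2
        exact pow_eq_pow_mod _ (by rw [← hx]; exact pow_orderOf_eq_one M.x)
      rw [← hg, ← map_pow, map_eq_one_iff _ χ.injective]
  obtain ⟨hs1, hi0⟩ := hcase
  have hid : χ.toMonoidHom = MonoidHom.id T := by
    refine MonoidHom.eq_of_eqOn_dense M.gen ?_
    intro v hv
    rcases hv with rfl | rfl | rfl
    · show χ _ = _
      rw [hχx, hs1, pow_one]; rfl
    · exact hχy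
    · show χ _ = _
      rw [hχu, hi0]; simp
  refine ⟨(M.x ^ (7 * m) * (M.y ^ j.1 * d₀))⁻¹, fun g => ?_⟩
  have := DFunLike.congr_fun hid g
  change M.x ^ (7 * m) * (M.y ^ j.1 * d₀ * φ g * (M.y ^ j.1 * d₀)⁻¹) * (M.x ^ (7 * m))⁻¹ = g at this
  conv_rhs => rw [← this]
  group

end Cfsg.Agent.Lib.RecogThree.M12.Graph.M11Facts
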