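import Cfsg.Agent.Lib.RecogThree.M12.Graph.Perfect
import Cfsg.Agent.Lib.RecogThree.M12.Graph.Central11
import Cfsg.Agent.Lib.RecogThree.M12.Unique
import Cfsg.Agent.Lib.Clifford.Ito
import Cfsg.Agent.Lib.Brauer.DegreeRatio
import Cfsg.Agent.Lib.Chars82.PGroupChars

/-!
A group of order `95040` with an irreducible character of degree divisible by `55` is `M₁₂` or has
a normal subgroup isomorphic to `M₁₁`.
-/

set_option autoImplicit false
set_option linter.style.haveILetI false
set_option linter.unusedSectionVars false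

namespace Cfsg.Agent.Lib.RecogThree.M12.Graph.Reduction

open Cfsg.Agent.Lib

universe u

variable {G : Type u} [Group G] [Finite G]

theorem abelian_normal (h : Nat.card G = 95040) (χ : Cfsg.IrrCharacter G)
    (hχ : ∃ d : ℕ, (χ : G → ℂ) 1 = d ∧ 55 ∣ d) (A : Subgroup G) (hA : A.Normal)
    (hcomm : ∀ a ∈ A, ∀ b ∈ A, a * b = b * a) :
    ¬ 5 ∣ Nat.card A ∧ ¬ 11 ∣ Nat.card A := by
  obtain ⟨d, hd, h55⟩ := hχ
  obtain ⟨d', hd', hdi⟩ := Clifford.Ito.degree_dvd_index A hcomm χ
  rw [hd, Nat.cast_inj] at hd'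
  subst hd'
  have hmul : Nat.card A * A.index = 95040 := h ▸ Subgroup.card_mul_index A
  constructor <;> intro hp
  · have := mul_dvd_mul hp ((Dvd.dvd.trans (by norm_num : 5 ∣ 55) h55).trans hdi)
    rw [hmul] at this
    norm_num at this
  · have := mul_dvd_mul hp ((Dvd.dvd.trans (by norm_num : 11 ∣ 55) h55).trans hdi)
    rw [hmul] at this
    norm_num at this

theorem cases_of_55 (h : Nat.card G = 95040) (χ : Cfsg.IrrCharacter G)
    (hχ : ∃ d : ℕ, (χ : G → ℂ) 1 = d ∧ 55 ∣ d) :
    Nonempty (G ≃* ↥Cfsg.Spor.M12) ∨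
      ∃ D : Subgroup G, D.Normal ∧ IsSimpleGroup D ∧ Nat.card D = 7920 := by
  classical
  haveI : Fact (Nat.Prime 11) := ⟨by norm_num⟩
  letI := Fintype.ofFinite G
  have hA := abelian_normal h χ hχ
  obtain ⟨x, hx⟩ := Layers.exists_eleven h
  have htop : ¬ Group.IsSolvable (⊤ : Subgroup G) := fun hs => by
    haveI := hs
    exact Layers.not_dvd_of_soluble h hA ⊤ (by rw [Subgroup.card_top, h]; norm_num)
  obtain ⟨D, -, hDn, hDb, hDp, hDmax⟩ := Perfect.exists_perfect ⊤ htop
  haveI := hDn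
  have h11D : 11 ∣ Nat.card D := by
    by_contra h11
    set C := Subgroup.centralizer (D : Set G) with hC
    have hxC : x ∈ C := by
      rw [hC, Subgroup.mem_centralizer_iff]
      exact fun v hv => Layers.centralizes_normal h D h11 hx v hv
    haveI : C.Normal := inferInstance
    have hCs : ¬ Group.IsSolvable C := fun hs => by
      haveI := hs
      exact Layers.not_dvd_of_soluble h hA C (hx ▸ Subgroup.orderOf_dvd_natCard C hxC)
    obtain ⟨K, hKC, -, hKb, hKp, -⟩ := Perfect.exists_perfect C hCs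
    apply hKb
    rw [← hKp, Subgroup.commutator_eq_bot_iff_le_centralizer]
    exact hKC.trans (Subgroup.centralizer_le (hDmax K le_top hKp))
  obtain ⟨M₁, hM₁, hsimple, hnc, hMn, hprime⟩ := Perfect.exists_simple_quotient h D hDb hDp
  haveI := hM₁
  haveI := hsimple
  haveI := hMn
  set M : Subgroup G := M₁.map D.subtype with hMdef
  have hMc : Nat.card M = Nat.card M₁ := Subgroup.card_map_of_injective D.subtype_injective
  have hmul : Nat.card (D ⧸ M₁) * Nat.card M = Nat.card D := by
    rw [hMc, ← Subgroup.card_eq_card_quotient_mul_card_subgroup]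
  have hDdvd : Nat.card D ∣ 95040 := h ▸ Subgroup.card_subgroup_dvd_card D
  have hTdvd : Nat.card (D ⧸ M₁) ∣ 95040 := (Dvd.intro _ hmul).trans hDdvd
  -- `11` divides the order of the simple quotient
  have hT11 : 11 ∣ Nat.card (D ⧸ M₁) := by
    by_contra hne
    have hT5 : 5 ∣ Nat.card (D ⧸ M₁) := hprime.resolve_right hne
    have hM11 : 11 ∣ Nat.card M :=
      ((by norm_num : Nat.Prime 11).dvd_mul.mp (hmul ▸ h11D)).resolve_left hne
    have hMs : ¬ Group.IsSolvable M := fun hs => by
      haveI := hs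
      exact Layers.not_dvd_of_soluble h hA M hM11
    obtain ⟨K, hKM, hKn, hKb, hKp, -⟩ := Perfect.exists_perfect M hMs
    haveI := hKn
    obtain ⟨N₁, hN₁, hs2, hnc2, -, hprime2⟩ := Perfect.exists_simple_quotient h K hKb hKp
    haveI := hN₁
    haveI := hs2
    have hd2 : Nat.card (D ⧸ M₁) * Nat.card (K ⧸ N₁) ∣ 95040 :=
      (mul_dvd_mul_left _ ((Subgroup.card_quotient_dvd_card N₁).trans
        (Subgroup.card_dvd_of_le hKM))).trans (hmul ▸ hDdvd)
    have h25 : ¬ 5 ∣ Nat.card (K ⧸ N₁) := fun e => by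
      have := (mul_dvd_mul hT5 e).trans hd2
      norm_num at this
    obtain ⟨m, hm⟩ := hprime2.resolve_left h25
    refine Orders.not_five_free hnc2 (Perfect.dvd_1728 h ?_ ?_ ?_) hm
    · exact (Dvd.intro_left 11 hm.symm).trans ((dvd_mul_left _ _).trans hd2)
    · exact fun e => h25 (hm ▸ e.mul_left 11)
    · intro e
      have := (Nat.mul_dvd_mul_left 11 e).trans ((hm ▸ dvd_mul_left _ _ :
        11 * m ∣ Nat.card (D ⧸ M₁) * Nat.card (K ⧸ N₁)).trans hd2)
      norm_num at this
  have hT5 : 5 ∣ Nat.card (D ⧸ M₁) := by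
    by_contra hne
    obtain ⟨m, hm⟩ := hT11
    refine Orders.not_five_free hnc (Perfect.dvd_1728 h ((Dvd.intro_left 11 hm.symm).trans hTdvd)
      (fun e => hne (hm ▸ e.mul_left 11)) fun e => ?_) hm
    have := (Nat.mul_dvd_mul_left 11 e).trans (hm ▸ hTdvd)
    norm_num at this
  have h55T : 55 ∣ Nat.card (D ⧸ M₁) :=
    (by norm_num : Nat.Coprime 5 11).mul_dvd_of_dvd_of_dvd hT5 hT11
  -- the kernel is central
  have hMT : Nat.card (D ⧸ M₁) * Nat.card M ∣ 95040 := hmul ▸ hDdvd
  have hM5 : ¬ 5 ∣ Nat.card M := fun e => by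
    have := (mul_dvd_mul hT5 e).trans hMT
    norm_num at this
  have hM11 : ¬ 11 ∣ Nat.card M := fun e => by
    have := (mul_dvd_mul hT11 e).trans hMT
    norm_num at this
  haveI hMs : Group.IsSolvable M := Perfect.isSolvable_of_dvd h
    (Perfect.dvd_1728 h ((dvd_mul_left _ _).trans hMT) hM5 hM11)
  obtain ⟨⟨y, hyD⟩, hy⟩ := exists_prime_orderOf_dvd_card' (G := D) 11 h11D
  rw [Subgroup.orderOf_mk] at hy
  have hyM : (⟨y, hyD⟩ : D) ∉ M₁ := fun hm => by
    refine hM11 (hy ▸ Subgroup.orderOf_dvd_natCard M ?_)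
    exact ⟨_, hm, rfl⟩
  set C := Subgroup.centralizer (Cfsg.fittingSubgroup G : Set G) with hCdef
  have hDC : D ≤ C := by
    haveI : C.Normal := inferInstance
    have hyC : y ∈ C := Subgroup.mem_centralizer_iff.mpr fun v hv =>
      Layers.centralizes_fitting h hA hy v hv
    set N := C.subgroupOf D with hN
    have hsup : M₁ ⊔ N = ⊤ := by
      by_contra hne
      have hlt : M₁ < M₁ ⊔ N := lt_of_le_of_ne le_sup_left fun e => hyM (e ▸
        Subgroup.mem_sup_right (show (⟨y, hyD⟩ : D) ∈ N from hyC))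
      have hbot : (M₁ ⊔ N).map (QuotientGroup.mk' M₁) ≠ ⊥ := fun e => hlt.not_ge (by
        rw [Subgroup.map_eq_bot_iff, QuotientGroup.ker_mk'] at e
        exact e)
      haveI : ((M₁ ⊔ N).map (QuotientGroup.mk' M₁)).Normal :=
        Subgroup.Normal.map inferInstance _ (QuotientGroup.mk'_surjective M₁)
      have e := (this.eq_bot_or_eq_top).resolve_left hbot
      refine hne ?_
      rw [← Subgroup.comap_map_eq_self (f := QuotientGroup.mk' M₁) (H := M₁ ⊔ N)
        (by rw [QuotientGroup.ker_mk']; exact le_sup_left), e, Subgroup.comap_top]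
    have hsurj : Function.Surjective ((QuotientGroup.mk' N).comp M₁.subtype) := by
      rw [← MonoidHom.range_eq_top, MonoidHom.range_comp, Subgroup.range_subtype]
      apply top_unique
      rw [← Subgroup.map_top_of_surjective _ (QuotientGroup.mk'_surjective N), ← hsup,
        Subgroup.map_sup, QuotientGroup.map_mk'_self, sup_bot_eq]
    haveI : Group.IsSolvable M₁ := Group.isSolvable_of_isSolvable_injective
      (f := ((Subgroup.equivMapOfInjective M₁ D.subtype D.subtype_injective)).toMonoidHom)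
      (MulEquiv.injective _)
    haveI : Group.IsSolvable (D ⧸ N) := Group.isSolvable_of_surjective hsurj
    have hp : commutator (D ⧸ N) = ⊤ := by
      rw [← Subgroup.map_top_of_surjective _ (QuotientGroup.mk'_surjective N),
        ← Perfect.commutator_eq_top hDp, map_commutator_eq,
        MonoidHom.range_eq_top.mpr (QuotientGroup.mk'_surjective N)]
      rfl
    have hNtop : N = ⊤ := by
      by_contra hne
      haveI : Nontrivial (D ⧸ N) := QuotientGroup.nontrivial_iff.mpr hne
      exact (Group.IsSolvable.commutator_lt_top_of_nontrivial (D ⧸ N)).ne hp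
    exact Subgroup.subgroupOf_eq_top.mp hNtop
  have hcen : M₁ ≤ Subgroup.center D := by
    have hF : Cfsg.fittingSubgroup M = ⊤ := by
      refine top_unique fun m _ => Cores.centralizer_fittingSubgroup_le ?_
      rw [Subgroup.mem_centralizer_iff]
      intro w hw
      have hw' : (w : G) ∈ (Cfsg.fittingSubgroup M).map M.subtype := ⟨w, hw, rfl⟩
      rw [Cores.map_subtype_fittingSubgroup] at hw'
      have hmD : (m : G) ∈ D := Subgroup.map_subtype_le _ m.2
      exact Subtype.ext (Subgroup.mem_centralizer_iff.mp (hDC hmD) w hw'.2)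
    have hMF : M ≤ Cfsg.fittingSubgroup G := by
      intro m hm
      have hm' : m ∈ (Cfsg.fittingSubgroup M).map M.subtype := ⟨⟨m, hm⟩, hF ▸ trivial, rfl⟩
      rw [Cores.map_subtype_fittingSubgroup] at hm'
      exact hm'.2
    intro m hm
    rw [Subgroup.mem_center_iff]
    intro v
    exact Subtype.ext
      (Subgroup.mem_centralizer_iff.mp (hDC v.2) (m : G) (hMF ⟨m, hm, rfl⟩)).symm
  -- the degree bound
  obtain ⟨φ, hφ⟩ := Clifford.Basic.exists_constituent_restrict D χ.2
  obtain ⟨e, c, d₀, hc, hd₀, hce, he⟩ := Brauer.DegreeRatio.ratio_dvd D χ.2 φ.2 hφ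
  obtain ⟨d, hd, h55⟩ := hχ
  have hcd : c = d := by exact_mod_cast hc.symm.trans hd
  have hidx : Nat.card D * D.index = 95040 := h ▸ Subgroup.card_mul_index D
  have h55D : 55 ∣ Nat.card D := hmul ▸ h55T.mul_right _
  have hd55 : 55 ∣ d₀ := by
    have he5 : ¬ 5 ∣ e := fun e5 => by
      have := mul_dvd_mul ((Dvd.dvd.trans (by norm_num : 5 ∣ 55) h55D)) (e5.trans he)
      rw [hidx] at this
      norm_num at this
    have he11 : ¬ 11 ∣ e := fun e5 => by
      have := mul_dvd_mul ((Dvd.dvd.trans (by norm_num : 11 ∣ 55) h55D)) (e5.trans he)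
      rw [hidx] at this
      norm_num at this
    have hed : 55 ∣ e * d₀ := hce ▸ hcd ▸ h55
    have hcop : Nat.Coprime (5 * 11) e :=
      Nat.Coprime.mul_left ((by norm_num : Nat.Prime 5).coprime_iff_not_dvd.mpr he5)
        ((by norm_num : Nat.Prime 11).coprime_iff_not_dvd.mpr he11)
    exact hcop.dvd_of_dvd_mul_left hed
  have hbig : 3025 ≤ Nat.card (D ⧸ M₁) := by
    have hsq := (Chars82.PGroupChars.degree_sq_mul_le φ hd₀).1
    have hd0 : 55 ≤ d₀ := Nat.le_of_dvd (Nat.pos_of_ne_zero fun e0 => by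
      rw [e0, Nat.cast_zero] at hd₀
      exact Characters.Basic.apply_one_ne_zero φ hd₀) hd55
    have hle : Nat.card M ≤ Nat.card (Subgroup.center D) :=
      hMc ▸ Nat.le_of_dvd Nat.card_pos (Subgroup.card_dvd_of_le hcen)
    have h3025 : 3025 ≤ d₀ ^ 2 := by nlinarith
    have : d₀ ^ 2 * Nat.card M ≤ Nat.card (D ⧸ M₁) * Nat.card M := by
      rw [hmul]; exact (Nat.mul_le_mul_left _ hle).trans hsq
    exact h3025.trans (Nat.le_of_mul_le_mul_right this Nat.card_pos)
  obtain ⟨m, hm⟩ := h55T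
  have hm1728 : m ∣ 1728 := Nat.dvd_of_mul_dvd_mul_left (by norm_num : 0 < 55) (hm ▸ hTdvd)
  rcases Orders.card_cases hnc hm1728 hm hbig with e7 | e9
  · right
    have hd12 : Nat.card M ∣ 12 :=
      Nat.dvd_of_mul_dvd_mul_left (by norm_num : 0 < 7920) (by rw [← e7]; exact hMT.trans (by rw [e7]))
    have hker : (QuotientGroup.mk' M₁).ker = ⊥ :=
      Central11.ker_eq_bot e7 (Perfect.commutator_eq_top hDp) _ (QuotientGroup.mk'_surjective M₁)
        (by rw [QuotientGroup.ker_mk']; exact hcen)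
        (by rw [QuotientGroup.ker_mk', ← hMc]; exact hd12)
    have ef : D ≃* D ⧸ M₁ := MulEquiv.ofBijective (QuotientGroup.mk' M₁)
      ⟨(MonoidHom.ker_eq_bot_iff _).mp hker, QuotientGroup.mk'_surjective M₁⟩
    refine ⟨D, hDn, ?_, (Nat.card_congr ef.toEquiv).trans e7⟩
    haveI : Nontrivial D := ef.toEquiv.nontrivial
    exact IsSimpleGroup.isSimpleGroup_of_surjective ef.symm.toMonoidHom ef.symm.surjective
  · left
    have hM1 : Nat.card M = 1 := by
      have := Nat.le_of_dvd (by norm_num) hMT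
      rw [e9] at this
      have := Nat.card_pos (α := M)
      omega
    have hD : Nat.card D = 95040 := by rw [← hmul, e9, hM1]
    have hDtop : D = ⊤ := Subgroup.eq_top_of_card_eq _ (hD.trans h.symm)
    have hbot : M₁ = ⊥ := Subgroup.eq_bot_of_card_eq _ (hMc ▸ hM1)
    have hbij : Function.Bijective (QuotientGroup.mk' M₁) :=
      ⟨(MonoidHom.ker_eq_bot_iff _).mp ((QuotientGroup.ker_mk' M₁).trans hbot),
        QuotientGroup.mk'_surjective M₁⟩
    obtain ⟨ε⟩ := Unique.equiv_M12 e9
    exact ⟨((Subgroup.topEquiv.symm.trans (MulEquiv.subgroupCongr hDtop.symm)).trans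
      (MulEquiv.ofBijective _ hbij)).trans ε⟩

end Cfsg.Agent.Lib.RecogThree.M12.Graph.Reduction
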