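import Cfsg.Agent.Lib.RecogThree.M12.Graph.Arith
import Cfsg.Agent.Lib.RecogThree.M12.Basic
import Cfsg.Agent.Lib.Classif.Order175560

/-!
Signed degrees at the prime `11` in simple groups of order dividing `95040`: small degrees, the
degree `45`, and the case of two classes `|N : C| = 2`.
-/

set_option autoImplicit false
set_option linter.style.haveILetI false
set_option linter.unusedSectionVars false

namespace Cfsg.Agent.Lib.RecogThree.M12.Graph.Small

open Cfsg.Agent.Lib.Characters Cfsg.Agent.Lib.Characters.Basic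
open Cfsg.Agent.Lib.Classif Cfsg.Agent.Lib.Classif.SmallOrderKills3
open Cfsg.Agent.Lib.Classif.PrimeExceptional (deg apply_one_eq)
open scoped ComplexConjugate
open Finset

universe u

theorem three_small {m₀ m₁ m₂ : ℕ} {d a : ℤ} (hd : d = (m₀ : ℤ) + m₁ + m₂) (hpos : 0 < m₁ + m₂)
    (h3 : (3 : ℤ) ∣ (m₁ : ℤ) - m₂) (h11 : (11 : ℤ) ∣ (m₁ : ℤ) - m₂)
    (hc : (11 : ℤ) ∣ 2 * (m₀ : ℤ) - m₁ - m₂ - 2 * a) :
    ¬ (d = 10 ∧ a = -1) ∧ ¬ (d = 12 ∧ a = 1) := by
  obtain ⟨i, hi⟩ := (show IsCoprime (3 : ℤ) 11 by norm_num).mul_dvd h3 h11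
  obtain ⟨j, hj⟩ := hc
  constructor <;> rintro ⟨rfl, rfl⟩ <;> omega

theorem orders_facts : ∀ g ∈ Arith.orders, g ≤ 47520 ∧ g ∣ 95040 := by decide

variable {G : Type u} [Group G] [Finite G] [IsSimpleGroup G] (hG : ¬ IsMulCommutative G)
  [Fact (Nat.Prime 11)] {P : Sylow 11 G} (hP : Nat.card (P : Subgroup G) = 11)
  {e : ℕ} (D : FirstPowerData.Data P e)

include hG hP

/-- An element of order two or three centralising `P` forces signed degrees beyond `-10` and `12`. -/
theorem not_small {χ : Cfsg.IrrCharacter G} (hχ : χ ∈ D.K) {q : G}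
    (hq : q ∈ Subgroup.centralizer ((P : Subgroup G) : Set G)) (hqo : orderOf q = 2 ∨ orderOf q = 3) :
    D.a χ * deg χ ≠ -10 ∧ D.a χ * deg χ ≠ 12 := by
  have hd := (D.two_le (SmallGroups.Sylow.commutator_eq_top hG)).1 χ hχ
  rcases hqo with hqo | hqo
  · obtain ⟨x, -, h11, h4, hlo, hlt⟩ :=
      FirstPowerKills.involution_value hG (by norm_num) hP D hχ hq hqo
    obtain ⟨i, hi⟩ := h11
    obtain ⟨j, hj⟩ := h4
    push_cast at hi
    constructor <;> intro h <;> rcases D.a_unit χ hχ with e' | e' <;> rw [e'] at h hi <;> omega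
  · obtain ⟨m₀, m₁, m₂, hdeg, hpos, h3, h11, hc⟩ :=
      FirstPowerKills.order_three_value hG (by norm_num) hP D hχ hq hqo
    have h11' : (11 : ℤ) ∣ (m₁ : ℤ) - m₂ := by
      have hp : Prime (11 : ℤ) := Int.prime_iff_natAbs_prime.mpr (by norm_num)
      push_cast at h11
      rcases hp.dvd_or_dvd h11 with h' | h'
      · exact hp.dvd_of_dvd_pow h'
      · norm_num at h'
    obtain ⟨h10, h12⟩ := three_small hdeg hpos h3 h11' (by simpa using hc)
    constructor <;> intro h <;> rcases D.a_unit χ hχ with e' | e' <;> rw [e'] at h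
    · omega
    · exact h10 ⟨by omega, e'⟩
    · exact h12 ⟨by omega, e'⟩
    · omega

/-- An element of order two or three centralising `P` whose class has length prime to `5` forbids
the degree `45`. -/
theorem not_45 {χ : Cfsg.IrrCharacter G} (hχ : χ ∈ D.K) {q : G}
    (hq : q ∈ Subgroup.centralizer ((P : Subgroup G) : Set G)) (hqo : orderOf q = 2 ∨ orderOf q = 3)
    (hidx : ¬ 5 ∣ (Subgroup.centralizer ({q} : Set G)).index) :
    D.a χ * deg χ ≠ 45 := by
  intro h
  have hd := (D.two_le (SmallGroups.Sylow.commutator_eq_top hG)).1 χ hχ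
  obtain ⟨ha, hdeg⟩ : D.a χ = 1 ∧ deg χ = 45 := by
    rcases D.a_unit χ hχ with e' | e' <;> rw [e'] at h <;> omega
  have hne : χ ≠ oneChar G := fun h1 => D.one_not_mem (h1 ▸ hχ)
  have hq1 : q ≠ 1 := fun e' => by rw [e', orderOf_one] at hqo; omega
  have hp5 : Prime (5 : ℤ) := Int.prime_iff_natAbs_prime.mpr (by norm_num)
  set k := (Subgroup.centralizer ({q} : Set G)).index with hk
  have h5k : ∀ s : ℤ, (45 : ℤ) ∣ (k : ℤ) * s → (5 : ℤ) ∣ s := fun s hs => by
    rcases hp5.dvd_or_dvd ((show (5 : ℤ) ∣ 45 by norm_num).trans hs) with h' | h'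
    · exact absurd (by exact_mod_cast h') hidx
    · exact h'
  rcases hqo with hqo | hqo
  · obtain ⟨x, hx, h11, h4, -, -⟩ :=
      FirstPowerKills.involution_value hG (by norm_num) hP D hχ hq hqo
    have h5 := h5k x (hdeg ▸ M12.Basic.deg_dvd_index_mul χ hx)
    have hab := abs_lt.mp (M12.Basic.abs_lt hG χ hne hq1 hx)
    rw [ha] at h11
    obtain ⟨i, hi⟩ := h11
    obtain ⟨j, hj⟩ := h4
    obtain ⟨l, hl⟩ := h5
    push_cast at hi
    omega
  · obtain ⟨n, ρ, hirr, hρ⟩ := exists_rep χ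
    haveI := hirr
    obtain ⟨ι, hι, b, ζ, hζ, hcard, htr⟩ := Diag.exists_eigenbasis ρ q three_ne_zero
      (by rw [← hqo, pow_orderOf_eq_one])
    have hz : ∀ i, ∃ z : ℤ, ζ i + conj (ζ i) = (z : ℂ) ∧ (3 : ℤ) ∣ z - 2 ∧ -1 ≤ z := by
      intro i
      by_cases h1 : ζ i = 1
      · exact ⟨2, by rw [h1, map_one]; norm_num, by norm_num, by norm_num⟩
      refine ⟨-1, ?_, by norm_num, le_rfl⟩
      have h3 := (hζ i).2
      have hc : conj (ζ i) = ζ i ^ 2 := by
        rw [Diag.conj_eq_inv_of_pow three_ne_zero h3]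
        exact inv_eq_of_mul_eq_one_right (by rw [← pow_succ', h3])
      have hsum : (ζ i - 1) * (ζ i ^ 2 + ζ i + 1) = 0 := by linear_combination h3
      have h0 := (mul_eq_zero.mp hsum).resolve_left (sub_ne_zero.mpr h1)
      rw [hc]
      push_cast
      linear_combination h0
    choose z hz hz3 hzlo using hz
    set s : ℤ := ∑ i, z i with hs
    have hval : (χ : G → ℂ) q + conj ((χ : G → ℂ) q) = (s : ℂ) := by
      rw [← hρ, htr, map_sum, ← sum_add_distrib, hs, Int.cast_sum]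
      exact sum_congr rfl fun i _ => hz i
    have hs3 : (3 : ℤ) ∣ s - 2 * 45 := by
      have hι : (Fintype.card ι : ℤ) = 45 := by
        rw [hcard, Module.finrank_fin_fun, ← hdeg]
        exact M12.Basic.rep_deg χ hρ
      rw [show s - 2 * 45 = ∑ i, (z i - 2) by
        rw [sum_sub_distrib, sum_const, card_univ, nsmul_eq_mul, hι, hs]; ring]
      exact dvd_sum fun i _ => hz3 i
    have hlo : -45 ≤ s := by
      have hι : (Fintype.card ι : ℤ) = 45 := by
        rw [hcard, Module.finrank_fin_fun, ← hdeg]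
        exact M12.Basic.rep_deg χ hρ
      rw [hs, show (-45 : ℤ) = ∑ _i : ι, (-1 : ℤ) by
        rw [sum_const, card_univ, nsmul_eq_mul, hι]; norm_num]
      exact sum_le_sum fun i _ => hzlo i
    have hsb : |s| < 90 := by
      have hn := M12.Basic.norm_lt hG χ hne hq1
      rw [hdeg] at hn
      have h' : ‖(s : ℂ)‖ < 90 := by
        rw [← hval]
        refine lt_of_le_of_lt (norm_add_le _ _) ?_
        rw [Complex.norm_conj]
        push_cast at hn
        linarith
      rw [Complex.norm_intCast] at h'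
      exact_mod_cast h'
    have hs11 : (11 : ℤ) ∣ s - 2 := by
      have h' := D.value_cong hP hχ hq (by rw [hqo]; norm_num)
      rw [ha] at h'
      have h'' := h'.add (h'.map (starRingEnd ℂ).toIntAlgHom)
      refine FirstPowerData.int_dvd_of_isIntegral (n := 11) (by norm_num) ?_
      have e : ((s - 2 : ℤ) : ℂ) / ((11 : ℕ) : ℂ) =
          ((χ : G → ℂ) q - ((1 : ℤ) : ℂ)) / ((11 : ℕ) : ℂ) +
            conj (((χ : G → ℂ) q - ((1 : ℤ) : ℂ)) / ((11 : ℕ) : ℂ)) := by
        rw [map_div₀, map_sub, map_intCast, map_natCast, Int.cast_sub, ← hval]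
        push_cast
        ring
      rw [e]
      exact h''
    have hs5 : (5 : ℤ) ∣ s := by
      refine h5k s ?_
      have h' := Induced.Integral.isIntegral_centralCharacter ρ q
      rw [hρ, Module.finrank_fin_fun] at h'
      have hn45 : (n : ℂ) = 45 := by
        have := M12.Basic.rep_deg χ hρ
        rw [hdeg] at this
        exact_mod_cast this
      rw [hn45] at h'
      have h'' := h'.add (h'.map (starRingEnd ℂ).toIntAlgHom)
      refine FirstPowerData.int_dvd_of_isIntegral (n := 45) (by norm_num) ?_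
      have e : (((k : ℤ) * s : ℤ) : ℂ) / ((45 : ℕ) : ℂ) =
          (k : ℂ) * (χ : G → ℂ) q / 45 + conj ((k : ℂ) * (χ : G → ℂ) q / 45) := by
        rw [map_div₀, map_mul, map_natCast, map_ofNat]
        push_cast
        rw [← hval]
        ring
      rw [e]
      exact h''
    obtain ⟨a₁, ha₁⟩ := hs3
    obtain ⟨a₂, ha₂⟩ := hs11
    obtain ⟨a₃, ha₃⟩ := hs5
    obtain ⟨hb1, hb2⟩ := abs_lt.mp hsb
    omega

omit hP in
theorem signed_code (hperf : commutator G = ⊤) (hP : Nat.card (P : Subgroup G) = 11) {g : ℕ}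
    (hg : g ∈ Arith.orders) (h : Nat.card G = g) {χ : Cfsg.IrrCharacter G} (hχ : χ ∈ D.K) :
    D.a χ * deg χ = -10 ∨ D.a χ * deg χ = 12 ∨ ∃ i : Fin 5, D.a χ * deg χ = Arith.code i := by
  haveI := Fintype.ofFinite G
  obtain ⟨h1, h2, h3, h4⟩ := FirstPowerKills.signed_facts hperf hP D hχ
  have hle : (D.a χ * deg χ) ^ 2 ≤ (g : ℤ) := by
    rw [h4, ← h]
    calc deg χ ^ 2 ≤ ∑ ψ ∈ D.K, deg ψ ^ 2 := single_le_sum (fun ψ _ => sq_nonneg (deg ψ)) hχ
      _ ≤ _ := by
        have := D.square_sum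
        have : 0 ≤ (D.fam.card : ℤ) * deg D.θ ^ 2 :=
          mul_nonneg (Int.natCast_nonneg _) (sq_nonneg _)
        linarith
  set c := D.a χ * deg χ
  have hg' := orders_facts g hg
  obtain ⟨i, hi⟩ := h1
  push_cast at hi
  have hsq : c ^ 2 ≤ 47520 := hle.trans (by exact_mod_cast hg'.1)
  have hb : -20 ≤ i ∧ i ≤ 20 := by constructor <;> nlinarith
  obtain ⟨j, hj⟩ : ∃ j : Fin 41, (j : ℤ) - 20 = i := ⟨⟨(i + 20).toNat, by omega⟩, by simp; omega⟩
  have := Arith.code_list j
  simp only [hj, show 11 * i + 1 = c by omega] at this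
  exact this h2 ((h ▸ h3).trans hg'.2) hsq

omit hP in
/-- With `|N : C| = 2` the family is `1, 10, 9`. -/
theorem two_eq (hP : Nat.card (P : Subgroup G) = 11) (he : e = 2) {g : ℕ}
    (hg : g ∈ Arith.orders) (h : Nat.card G = g) :
    ∀ χ ∈ D.K, D.a χ * deg χ = -10 := by
  subst he
  haveI := Fintype.ofFinite G
  have hperf := SmallGroups.Sylow.commutator_eq_top hG
  intro χ hχ
  have hK := D.card_K
  have hfam := D.fam_card
  obtain ⟨χ', hK'⟩ := card_eq_one.mp (show D.K.card = 1 by omega)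
  obtain rfl : χ = χ' := mem_singleton.mp (hK' ▸ hχ)
  obtain ⟨h1, h2, h3, h4⟩ := FirstPowerKills.signed_facts hperf hP D hχ
  obtain ⟨-, ht2, ht3, ht4⟩ := FirstPowerKills.theta_facts hperf D (S := D.a χ * deg χ)
    (by rw [hK', sum_singleton])
  have hsq := D.square_sum
  rw [hK', sum_singleton, ← h4, ht4, show D.fam.card = 5 by omega, h] at hsq
  push_cast at hsq
  set c := D.a χ * deg χ
  obtain ⟨i, hi⟩ := h1
  push_cast at hi
  have hg' := (orders_facts g hg).1
  have : (g : ℤ) ≤ 47520 := by exact_mod_cast hg'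
  have hb : -20 ≤ i ∧ i ≤ 20 := by constructor <;> nlinarith
  obtain ⟨j, hj⟩ : ∃ j : Fin 41, (j : ℤ) - 20 = i := ⟨⟨(i + 20).toNat, by omega⟩, by simp; omega⟩
  have := Arith.two g hg j
  simp only [hj, show 11 * i + 1 = c by omega] at this
  exact this h2 (h ▸ h3) ht2 (h ▸ ht3) hsq

end Cfsg.Agent.Lib.RecogThree.M12.Graph.Small
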